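import Groth.Agent.HensFormalLib.Apps
import Groth.Agent.NorLocLib.Basic
import Mathlib.RingTheory.Smooth.NoetherianDescent
import Mathlib.RingTheory.Localization.BaseChange
import Mathlib.AlgebraicGeometry.Morphisms.Smooth
import Mathlib.AlgebraicGeometry.Morphisms.Etale
import Mathlib.AlgebraicGeometry.AffineSpace

/-! Smooth maps preserve geometric unibranchness. -/

set_option autoImplicit false
set_option linter.style.haveILetI false
set_option maxHeartbeats 1000000
universe u

open IsLocalRing TensorProduct EGA4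

namespace HensFormalLib

theorem isGeomUnibranch_and_domain_congr (R R' : Type u) [CommRing R] [IsLocalRing R] [CommRing R'] [IsLocalRing R']
    (e : R ≃+* R') {P : Prop} (h : CAlg2.IsGeomUnibranch R ∧ (P → IsDomain R)) :
    CAlg2.IsGeomUnibranch R' ∧ (P → IsDomain R') :=
  ⟨isGeomUnibranch_of_ringEquiv R R' e h.1, fun hp => by haveI := h.2 hp; exact e.symm.toMulEquiv.isDomain R⟩

/-- Normal base change of a ring geometrically unibranch at a prime. -/
theorem geomUnibranch_bc_prime (A₀ B₀ A : Type u) [CommRing A₀] [CommRing B₀] [IsNoetherianRing A₀]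
    [IsNoetherianRing B₀] [Algebra A₀ B₀] (h : IsNormalHom A₀ B₀) [CommRing A] [Algebra A₀ A]
    (q : Ideal (A ⊗[A₀] B₀)) [q.IsPrime]
    (hA : CAlg2.IsGeomUnibranch (Localization.AtPrime (q.comap (algebraMap A (A ⊗[A₀] B₀))))) :
    CAlg2.IsGeomUnibranch (Localization.AtPrime q) ∧
      (IsDomain (Localization.AtPrime (q.comap (algebraMap A (A ⊗[A₀] B₀)))) → IsDomain (Localization.AtPrime q)) := by
  let p := q.comap (algebraMap A (A ⊗[A₀] B₀))
  let Ap := Localization.AtPrime p
  let T := A ⊗[A₀] B₀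
  let W := Ap ⊗[A₀] B₀
  let g : T →ₐ[A₀] W := Algebra.TensorProduct.map (IsScalarTower.toAlgHom A₀ A Ap) (AlgHom.id A₀ B₀)
  letI : Algebra T W := g.toRingHom.toAlgebra
  haveI : IsScalarTower A T W := IsScalarTower.of_algebraMap_eq fun a => by
    show algebraMap A Ap a ⊗ₜ[A₀] (1 : B₀) = g (a ⊗ₜ 1)
    rfl
  haveI hW : IsLocalization (Algebra.algebraMapSubmonoid T p.primeCompl) W :=
    IsLocalization.tensorProduct_tensorProduct A₀ B₀ p.primeCompl Ap (RingHom.ext fun x => by
      show g ((1 : A) ⊗ₜ[A₀] x) = _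
      exact congrArg (fun y => y ⊗ₜ[A₀] x) (map_one (IsScalarTower.toAlgHom A₀ A Ap)))
  have hdisj : Disjoint (Algebra.algebraMapSubmonoid T p.primeCompl : Set T) (q : Set T) := by
    refine Set.disjoint_left.2 ?_
    rintro _ ⟨a, ha, rfl⟩ hq'
    exact ha hq'
  let q' := q.map (algebraMap T W)
  haveI hq'p : q'.IsPrime :=
    IsLocalization.isPrime_of_isPrime_disjoint (Algebra.algebraMapSubmonoid T p.primeCompl) W q ‹_› hdisj
  have hcq : q'.comap (algebraMap T W) = q :=
    IsLocalization.under_map_of_isPrime_disjoint (Algebra.algebraMapSubmonoid T p.primeCompl) W ‹_› hdisj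
  have hq' : q'.comap (algebraMap Ap W) = maximalIdeal Ap := by
    have h1 : (q'.comap (algebraMap Ap W)).comap (algebraMap A Ap) = p := by
      rw [Ideal.comap_comap, ← IsScalarTower.algebraMap_eq, IsScalarTower.algebraMap_eq A T W, ← Ideal.comap_comap, hcq]
    rw [← IsLocalization.map_under p.primeCompl Ap (q'.comap (algebraMap Ap W)), Ideal.under_def, h1,
      Localization.AtPrime.map_eq_maximalIdeal]
  have h2 := geomUnibranch_bc A₀ B₀ h Ap hA q' hq'
  haveI : IsLocalization.AtPrime (Localization.AtPrime q') (q'.comap (algebraMap T W)) :=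
    IsLocalization.isLocalization_isLocalization_atPrime_isLocalization
      (Algebra.algebraMapSubmonoid T p.primeCompl) (Localization.AtPrime q') q'
  haveI : IsLocalization.AtPrime (Localization.AtPrime q') q := by
    show IsLocalization q.primeCompl _
    simp_rw [← hcq]
    infer_instance
  exact isGeomUnibranch_and_domain_congr _ _
    (IsLocalization.algEquiv q.primeCompl (Localization.AtPrime q') (Localization.AtPrime q)).toRingEquiv h2

theorem geomUnibranch_atPrime_of_smooth (R S : Type u) [CommRing R] [CommRing S] [Algebra R S] [Algebra.Smooth R S]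
    (q : Ideal S) [q.IsPrime] (p : Ideal R) [p.IsPrime] (hp : p = q.comap (algebraMap R S))
    (h : CAlg2.IsGeomUnibranch (Localization.AtPrime p)) :
    CAlg2.IsGeomUnibranch (Localization.AtPrime q) ∧
      (IsDomain (Localization.AtPrime p) → IsDomain (Localization.AtPrime q)) := by
  obtain ⟨A₀, B₀, _, _, _, _, _, _, hft, hs, ⟨e⟩⟩ := Algebra.Smooth.exists_finiteType ℤ R S
  haveI := hs
  haveI := hft
  haveI : IsNoetherianRing A₀ := Algebra.FiniteType.isNoetherianRing ℤ A₀
  haveI : IsNoetherianRing B₀ := Algebra.FiniteType.isNoetherianRing A₀ B₀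
  let Q := q.comap e.symm.toRingEquiv.toRingHom
  have hQ : p = Q.comap (algebraMap R (R ⊗[A₀] B₀)) := by
    rw [hp, Ideal.comap_comap]
    exact congrArg (fun φ => Ideal.comap φ q) (RingHom.ext fun r => (e.symm.commutes r).symm)
  subst hQ
  refine isGeomUnibranch_and_domain_congr _ _
    (IsLocalization.ringEquivOfRingEquiv (M := Q.primeCompl) (T := q.primeCompl) (Localization.AtPrime Q)
      (Localization.AtPrime q) e.symm.toRingEquiv ?_)
    (geomUnibranch_bc_prime A₀ B₀ R (NorLocLib.isNormalHom_of_smooth A₀ B₀) Q h)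
  ext x
  constructor
  · rintro ⟨y, hy, rfl⟩; exact hy
  · intro hx
    exact ⟨e x, fun hmem => hx (by have h2 : e.symm (e x) ∈ q := hmem; rwa [e.symm_apply_apply] at h2),
      e.symm_apply_apply x⟩

end HensFormalLib

open CategoryTheory AlgebraicGeometry Limits

namespace HensFormalLib

theorem geomUnibranch_stalk_of_smooth {X Y : Scheme.{u}} (f : X ⟶ Y) [Smooth f] (x : X)
    (h : CAlg2.IsGeomUnibranch (Y.presheaf.stalk (f x))) :
    CAlg2.IsGeomUnibranch (X.presheaf.stalk x) ∧
      (IsDomain (Y.presheaf.stalk (f x)) → IsDomain (X.presheaf.stalk x)) := by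
  obtain ⟨_, ⟨U, hU, rfl⟩, hxU, -⟩ :=
    Y.isBasis_affineOpens.exists_subset_of_mem_open (Set.mem_univ (f x)) isOpen_univ
  obtain ⟨_, ⟨V, hV, rfl⟩, hxV, hVU⟩ :=
    X.isBasis_affineOpens.exists_subset_of_mem_open hxU (U.2.preimage f.continuous)
  have hs := HasRingHomProperty.appLE @Smooth f inferInstance ⟨U, hU⟩ ⟨V, hV⟩ hVU
  algebraize [(f.appLE U V hVU).hom]
  let p := (hU.primeIdealOf ⟨f x, hVU hxV⟩).asIdeal
  let q := (hV.primeIdealOf ⟨x, hxV⟩).asIdeal
  have hp : p = q.comap (algebraMap Γ(Y, U) Γ(X, V)) :=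
    congr($(IsAffineOpen.comap_primeIdealOf_appLE U hU V hV hVU hxV).1).symm
  letI aU := TopCat.Presheaf.algebra_section_stalk Y.presheaf (⟨f x, hVU hxV⟩ : U)
  haveI : IsLocalization.AtPrime (Y.presheaf.stalk (f x)) p := hU.isLocalization_stalk ⟨f x, hVU hxV⟩
  letI aV := TopCat.Presheaf.algebra_section_stalk X.presheaf (⟨x, hxV⟩ : V)
  haveI : IsLocalization.AtPrime (X.presheaf.stalk x) q := hV.isLocalization_stalk ⟨x, hxV⟩
  let eY : Localization.AtPrime p ≃+* Y.presheaf.stalk (f x) :=
    (IsLocalization.algEquiv p.primeCompl (Localization.AtPrime p) _).toRingEquiv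
  let eX : Localization.AtPrime q ≃+* X.presheaf.stalk x :=
    (IsLocalization.algEquiv q.primeCompl (Localization.AtPrime q) _).toRingEquiv
  obtain ⟨h1, h2⟩ := isGeomUnibranch_and_domain_congr _ _ eX (geomUnibranch_atPrime_of_smooth Γ(Y, U) Γ(X, V) q p hp
    (isGeomUnibranch_of_ringEquiv _ _ eY.symm h))
  exact ⟨h1, fun hd => h2 (eY.toMulEquiv.isDomain _)⟩

set_option backward.isDefEq.respectTransparency.types false in
theorem smooth_affineSpace (n : Type u) [Finite n] (S : Scheme.{u}) : Smooth (𝔸(n; S) ↘ S) :=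
  MorphismProperty.pullback_fst _ _ <| by
  have := isIso_of_isTerminal specULiftZIsTerminal.{u} terminalIsTerminal (terminal.from _)
  rw [← terminal.comp_from (Spec.map (CommRingCat.ofHom MvPolynomial.C)),
    MorphismProperty.cancel_right_of_respectsIso (P := @Smooth),
    HasRingHomProperty.Spec_iff (P := @Smooth)]
  have : Algebra.Smooth (ULift.{u} ℤ) (MvPolynomial n (ULift.{u} ℤ)) := ⟨inferInstance, inferInstance⟩
  rw [← RingHom.smooth_algebraMap] at this
  exact this

end HensFormalLib
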