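import Groth.Agent.HensFormalLib.NormalBCUnibranch
import Groth.Agent.NorLocLib.Basic
import Groth.Agent.HenselLib.Perm
import Groth.Agent.HenselLib.Local
import Mathlib.FieldTheory.PurelyInseparable.PerfectClosure

/-! Applications: henselian integral domains, smooth algebras over strictly henselian domains, fraction fields of
completions. -/

set_option autoImplicit false
set_option linter.style.haveILetI false
set_option maxHeartbeats 1000000
set_option synthInstance.maxHeartbeats 400000
universe u

open EGA4 TensorProduct IsLocalRing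

namespace HensFormalLib

theorem henselian_of_integral_domain (A B : Type u) [CommRing A] [HenselianLocalRing A] [CommRing B] [IsDomain B]
    [Algebra A B] [Algebra.IsIntegral A B] : ∃ _ : HenselianLocalRing B, IsLocalHom (algebraMap A B) := by
  haveI := isLocalRing_of_integral_domain A B
  haveI := isLocalHom_of_isIntegral A B
  haveI : HenselianRing A (maximalIdeal A) := inferInstance
  haveI := HenselLib.henselianRing_map_of_isIntegral (I := maximalIdeal A) (B := B)
  haveI : HenselianRing B (maximalIdeal B) := by
    refine HenselLib.henselianRing_of_le_radical (J := (maximalIdeal A).map (algebraMap A B)) ?_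
    rw [Ideal.radical_eq_sInf]
    refine le_sInf fun P ⟨hP, hPp⟩ => ?_
    haveI := hPp
    haveI : (P.comap (algebraMap A B)).IsMaximal := by
      rw [← (maximalIdeal.isMaximal A).eq_of_le (Ideal.IsPrime.comap _).ne_top (Ideal.map_le_iff_le_comap.1 hP)]
      exact maximalIdeal.isMaximal A
    exact (IsLocalRing.eq_maximalIdeal (Ideal.isMaximal_of_isIntegral_of_isMaximal_comap (R := A) P ‹_›)).ge
  exact ⟨HenselLib.henselianLocalRing_of_henselianRing, inferInstance⟩

theorem sepClosed_residue (A B : Type u) [CommRing A] [IsLocalRing A] [CommRing B] [IsLocalRing B]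
    [Algebra A B] [Algebra.IsIntegral A B] [IsLocalHom (algebraMap A B)] [IsSepClosed (ResidueField A)] :
    IsSepClosed (ResidueField B) ∧ IsPurelyInseparable (ResidueField A) (ResidueField B) := by
  haveI : Algebra.IsAlgebraic (ResidueField A) (ResidueField B) := by
    refine ⟨fun x => ?_⟩
    obtain ⟨b, rfl⟩ := residue_surjective x
    have h1 : IsIntegral A (residue B b) :=
      (Algebra.IsIntegral.isIntegral b).map (IsScalarTower.toAlgHom A B (ResidueField B))
    exact h1.tower_top.isAlgebraic
  exact ⟨Algebra.IsAlgebraic.isSepClosed (F := ResidueField A) (E := ResidueField B), inferInstance⟩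

/-- Geometrically unibranch rings are preserved by isomorphisms. -/
theorem isGeomUnibranch_of_ringEquiv (R R' : Type u) [CommRing R] [IsLocalRing R] [CommRing R'] [IsLocalRing R']
    (e : R ≃+* R') (h : CAlg2.IsGeomUnibranch R) : CAlg2.IsGeomUnibranch R' := by
  obtain ⟨⟨hd, hl⟩, hres⟩ := h
  haveI := hd
  haveI := hl
  haveI : Algebra.IsIntegral R (CAlg2.normRed R) := Algebra.IsIntegral.trans (CAlg2.red R)
  haveI : IsFractionRing (CAlg2.normRed R) (FractionRing (CAlg2.red R)) := IsFractionRing.of_field _ _ fun z => by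
    obtain ⟨a, b, -, rfl⟩ := IsFractionRing.div_surjective (CAlg2.red R) z
    exact ⟨algebraMap _ (CAlg2.normRed R) a, algebraMap _ (CAlg2.normRed R) b, rfl⟩
  haveI : IsIntegrallyClosed (CAlg2.normRed R) :=
    (isIntegrallyClosed_iff_isIntegrallyClosedIn (FractionRing (CAlg2.red R))).2 inferInstance
  letI : Algebra R' (CAlg2.normRed R) := ((algebraMap R (CAlg2.normRed R)).comp e.symm.toRingHom).toAlgebra
  have hmap : ∀ r : R, algebraMap R' (CAlg2.normRed R) (e r) = algebraMap R (CAlg2.normRed R) r := fun r =>
    congrArg (algebraMap R (CAlg2.normRed R)) (e.symm_apply_apply r)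
  haveI : Algebra.IsIntegral R' (CAlg2.normRed R) := ⟨fun y => by
    obtain ⟨P, hP, hPy⟩ := Algebra.IsIntegral.isIntegral (R := R) y
    refine ⟨P.map e.toRingHom, hP.map _, ?_⟩
    rw [Polynomial.eval₂_map, show (algebraMap R' (CAlg2.normRed R)).comp e.toRingHom = algebraMap R (CAlg2.normRed R) from
      RingHom.ext hmap]
    exact hPy⟩
  have hinjred : ∀ r : R, algebraMap R (CAlg2.normRed R) r = 0 → r ∈ nilradical R := fun r hr =>
    Ideal.Quotient.eq_zero_iff_mem.1 ((map_eq_zero_iff _ (IsFractionRing.injective (CAlg2.red R) (FractionRing (CAlg2.red R)))).1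
      (congrArg Subtype.val hr))
  have hker : RingHom.ker (algebraMap R' (CAlg2.normRed R)) = nilradical R' := by
    ext x
    obtain ⟨r, rfl⟩ := e.surjective x
    rw [RingHom.mem_ker, hmap]
    refine ⟨fun h => (mem_nilradical.1 (hinjred r h)).map e, fun h => ?_⟩
    have hr : IsNilpotent r := by simpa using (mem_nilradical.1 h).map e.symm
    exact (hr.map (algebraMap R (CAlg2.normRed R))).eq_zero
  have hbir : ∀ s : CAlg2.normRed R, ∃ d : R', algebraMap R' (CAlg2.normRed R) d ≠ 0 ∧ ∃ c : R',
      algebraMap R' (CAlg2.normRed R) d * s = algebraMap R' (CAlg2.normRed R) c := by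
    intro s
    obtain ⟨⟨x, y⟩, hxy⟩ := IsLocalization.surj (nonZeroDivisors (CAlg2.red R)) s.1
    obtain ⟨x₀, rfl⟩ := Ideal.Quotient.mk_surjective x
    obtain ⟨y₀, hy₀⟩ := Ideal.Quotient.mk_surjective (y : CAlg2.red R)
    refine ⟨e y₀, ?_, e x₀, ?_⟩
    · rw [hmap]
      intro h0
      exact nonZeroDivisors.ne_zero y.2 (hy₀ ▸ Ideal.Quotient.eq_zero_iff_mem.2 (hinjred y₀ h0))
    · rw [hmap, hmap]
      refine Subtype.ext ?_
      rw [← hy₀, mul_comm] at hxy
      exact hxy
  haveI := isLocalHom_of_isIntegral R (CAlg2.normRed R)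
  haveI := isLocalHom_of_isIntegral R' (CAlg2.normRed R)
  obtain ⟨q, hq⟩ := ExpChar.exists (ResidueField R)
  haveI := hq
  haveI : ExpChar (ResidueField R') q := expChar_of_injective_ringHom (ResidueField.mapEquiv e).injective q
  haveI : ExpChar (CAlg2.normRed R ⧸ maximalIdeal (CAlg2.normRed R)) q :=
    expChar_of_injective_ringHom (ResidueField.map (algebraMap R (CAlg2.normRed R))).injective q
  refine isGeomUnibranch_of_birational R' (CAlg2.normRed R) hker hbir q fun b => ?_
  obtain ⟨n, a, ha⟩ := hres (maximalIdeal (CAlg2.normRed R)) (Ideal.Quotient.mk _ b)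
  rw [ringExpChar.eq (CAlg2.normRed R ⧸ maximalIdeal (CAlg2.normRed R)) q] at ha
  refine ⟨n, e a, ?_⟩
  rw [hmap, ← Ideal.Quotient.eq_zero_iff_mem, map_sub, map_pow, ← ha]
  exact sub_eq_zero.2 rfl

/-- A strictly henselian domain is geometrically unibranch. -/
theorem isGeomUnibranch_of_sepClosed (R : Type u) [CommRing R] [IsDomain R] [HenselianLocalRing R]
    [IsSepClosed (ResidueField R)] : CAlg2.IsGeomUnibranch R := by
  haveI hdom : IsDomain (CAlg2.red R) := by
    haveI : (nilradical R).IsPrime := by rw [nilradical_eq_zero]; exact Ideal.isPrime_bot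
    infer_instance
  haveI : Algebra.IsIntegral R (CAlg2.normRed R) := Algebra.IsIntegral.trans (CAlg2.red R)
  haveI hloc := isLocalRing_of_integral_domain R (CAlg2.normRed R)
  haveI := isLocalHom_of_isIntegral R (CAlg2.normRed R)
  refine ⟨⟨hdom, hloc⟩, fun m' hm' => ?_⟩
  intro x
  have hmax : m' = maximalIdeal (CAlg2.normRed R) := IsLocalRing.eq_maximalIdeal hm'
  subst hmax
  obtain ⟨q, hq⟩ := ExpChar.exists (ResidueField R)
  haveI := hq
  haveI : ExpChar (CAlg2.normRed R ⧸ maximalIdeal (CAlg2.normRed R)) q :=
    expChar_of_injective_ringHom (ResidueField.map (algebraMap R (CAlg2.normRed R))).injective q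
  rw [ringExpChar.eq (CAlg2.normRed R ⧸ maximalIdeal (CAlg2.normRed R)) q]
  haveI := (sepClosed_residue R (CAlg2.normRed R)).2
  obtain ⟨n, y, hy⟩ := IsPurelyInseparable.pow_mem (F := ResidueField R) (E := ResidueField (CAlg2.normRed R)) q x
  obtain ⟨r, rfl⟩ := residue_surjective y
  exact ⟨n, r, hy⟩

/-- Smooth algebras over a strictly henselian domain are geometrically unibranch domains at the closed fibre. -/
theorem geomUnibranch_of_smooth (R R' : Type u) [CommRing R] [IsDomain R] [IsNoetherianRing R] [HenselianLocalRing R]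
    [IsSepClosed (ResidueField R)] [CommRing R'] [Algebra R R'] [Algebra.Smooth R R']
    (p : Ideal R') [p.IsPrime] (hp : (maximalIdeal R).map (algebraMap R R') ≤ p) :
    IsDomain (Localization.AtPrime p) ∧ CAlg2.IsGeomUnibranch (Localization.AtPrime p) := by
  haveI : IsNoetherianRing R' := Algebra.FiniteType.isNoetherianRing R R'
  let l := (Algebra.TensorProduct.lid R R').toRingEquiv
  let q := p.comap l.toRingHom
  have hq : q.comap (algebraMap R (R ⊗[R] R')) = maximalIdeal R := by
    refine ((maximalIdeal.isMaximal R).eq_of_le (Ideal.IsPrime.comap _).ne_top fun r hr => ?_).symm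
    show Algebra.TensorProduct.lid R R' (algebraMap R (R ⊗[R] R') r) ∈ p
    rw [AlgEquiv.commutes]
    exact hp (Ideal.mem_map_of_mem _ hr)
  obtain ⟨h1, h2⟩ := geomUnibranch_bc R R' (NorLocLib.isNormalHom_of_smooth R R') R
    (isGeomUnibranch_of_sepClosed R) q hq
  have hM : q.primeCompl.map l.toMonoidHom = p.primeCompl := by
    ext y
    refine ⟨?_, fun hy ↦ ⟨l.symm y, fun hc ↦ hy (by simpa [q] using hc), l.apply_symm_apply y⟩⟩
    rintro ⟨x, hx, rfl⟩ hc
    exact hx hc
  let e := IsLocalization.ringEquivOfRingEquiv (M := q.primeCompl) (T := p.primeCompl)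
    (Localization.AtPrime q) (Localization.AtPrime p) l hM
  haveI := h2 ‹IsDomain R›
  exact ⟨e.symm.toMulEquiv.isDomain _, isGeomUnibranch_of_ringEquiv _ _ e h1⟩

theorem injective_of_isDomain_of_finite (K T E : Type u) [Field K] [CommRing T] [IsDomain T] [Algebra K T]
    [Module.Finite K T] [CommRing E] [Nontrivial E] [Algebra K E] (μ : T →ₐ[K] E) : Function.Injective μ := by
  haveI : Algebra.IsIntegral K T := inferInstance
  letI := (isField_of_isIntegral_of_isField' (R := K) (S := T) (Field.toIsField K)).toField
  exact μ.toRingHom.injective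

/-- An element algebraic over a field, in an extension which stays a domain, is in the base field. -/
theorem mem_range_of_isDomain_tensor (K L : Type u) [Field K] [Field L] [Algebra K L]
    [IsDomain (AlgebraicClosure K ⊗[K] L)] (x : L) (hx : IsAlgebraic K x) : x ∈ Set.range (algebraMap K L) := by
  let E := IntermediateField.adjoin K ({x} : Set L)
  haveI : FiniteDimensional K E := IntermediateField.adjoin.finiteDimensional hx.isIntegral
  let ι : E →ₐ[K] AlgebraicClosure K := IsAlgClosed.lift
  let f : E ⊗[K] E →ₐ[K] AlgebraicClosure K ⊗[K] L := Algebra.TensorProduct.map ι E.val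
  have hf : Function.Injective f := by
    have h1 : Function.Injective (LinearMap.rTensor E ι.toLinearMap) :=
      Module.Flat.rTensor_preserves_injective_linearMap (M := E) _ ι.injective
    have h2 : Function.Injective (LinearMap.lTensor (AlgebraicClosure K) E.val.toLinearMap) :=
      Module.Flat.lTensor_preserves_injective_linearMap (M := AlgebraicClosure K) _ E.val.injective
    have : f.toLinearMap = (LinearMap.lTensor (AlgebraicClosure K) E.val.toLinearMap).comp (LinearMap.rTensor E ι.toLinearMap) :=
      TensorProduct.ext' fun a b => rfl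
    intro a b hab
    apply h1
    apply h2
    rw [← LinearMap.comp_apply, ← LinearMap.comp_apply, ← this]
    exact hab
  have hdom : IsDomain (E ⊗[K] E) := Function.Injective.isDomain f.toRingHom hf
  let μ : E ⊗[K] E →ₐ[K] E := Algebra.TensorProduct.lmul' K
  have hinj : Function.Injective μ := injective_of_isDomain_of_finite K (E ⊗[K] E) E μ
  have hle := LinearMap.finrank_le_finrank_of_injective (f := μ.toLinearMap) hinj
  rw [Module.finrank_tensorProduct] at hle
  have h1 : Module.finrank K E = 1 :=
    le_antisymm (Nat.le_of_mul_le_mul_left (hle.trans (mul_one _).ge) Module.finrank_pos) Module.finrank_pos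
  have h2 : E = ⊥ := IntermediateField.finrank_eq_one_iff.1 h1
  exact IntermediateField.mem_bot.1 (h2 ▸ IntermediateField.mem_adjoin_simple_self K x)

/-- The fraction field of the completion is a regular extension. -/
theorem regular_fractionField_cpl (A : Type u) [CommRing A] [IsNoetherianRing A] [HenselianLocalRing A]
    [IsDomain A] (h : HasGeomNormalFormalFibres A) [IsDomain (Cpl A)]
    (K L : Type u) [Field K] [Field L] [Algebra A K] [IsFractionRing A K] [Algebra (Cpl A) L] [IsFractionRing (Cpl A) L]
    [Algebra K L] [Algebra A L] [IsScalarTower A K L] [IsScalarTower A (Cpl A) L] :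
    Algebra.IsGeometricallyReduced K L ∧ ∀ x : L, IsAlgebraic K x → x ∈ Set.range (algebraMap K L) := by
  let P : Ideal A := ⊥
  haveI : P.IsPrime := Ideal.isPrime_bot
  let Kb := AlgebraicClosure K
  haveI : IsDomain (Kb ⊗[K] L) := by
    have hinj : Function.Injective (algebraMap A K) := IsFractionRing.injective A K
    let g := Ideal.ResidueField.liftₐ P (Algebra.ofId A Kb) bot_le (fun x hx => isUnit_iff_ne_zero.2 (by
      show algebraMap A Kb x ≠ 0
      rw [IsScalarTower.algebraMap_apply A K Kb]
      exact (map_ne_zero_iff _ (algebraMap K Kb).injective).2 ((map_ne_zero_iff _ hinj).2 fun h0 => hx (by simp [P, h0]))))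
    letI : Algebra P.ResidueField Kb := g.toRingHom.toAlgebra
    haveI : IsScalarTower A P.ResidueField Kb := IsScalarTower.of_algebraMap_eq fun a => (g.commutes a).symm
    haveI : IsDomain (Kb ⊗[A] Cpl A) := by
      haveI := isDomain_formalFibre_bc A h P Kb
      exact (Algebra.TensorProduct.cancelBaseChange A P.ResidueField Kb Kb (Cpl A)).symm.toRingEquiv.toMulEquiv.isDomain _
    haveI : Module.Flat A K := IsLocalization.flat K (nonZeroDivisors A)
    haveI : Module.Flat A Kb := Module.Flat.trans A K Kb
    haveI : TensorProduct.CompatibleSMul A K Kb L :=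
      IsLocalization.tensorProduct_compatibleSMul (nonZeroDivisors A) K Kb L
    let e := Algebra.TensorProduct.equivOfCompatibleSMul A K Kb Kb L
    haveI : Nontrivial (Kb ⊗[A] L) := by
      haveI : Nontrivial (Kb ⊗[K] L) := inferInstance
      exact e.symm.toRingEquiv.toEquiv.nontrivial
    haveI : IsDomain (Kb ⊗[A] L) := isDomain_tensor_fractionField A Kb (Cpl A) L
      (IsFractionRing.injective (Cpl A) L) fun x => by
        obtain ⟨a, b, hb, rfl⟩ := IsFractionRing.div_surjective (Cpl A) x
        have hb0 := nonZeroDivisors.ne_zero hb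
        refine ⟨b, a, hb0, ?_⟩
        rw [mul_div_cancel₀ _ ((map_ne_zero_iff _ (IsFractionRing.injective (Cpl A) L)).2 hb0)]
    exact e.toRingEquiv.toMulEquiv.isDomain _
  refine ⟨(Algebra.isGeometricallyReduced_field_iff K L).2 inferInstance, fun x hx => ?_⟩
  exact mem_range_of_isDomain_tensor K L x hx

end HensFormalLib
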