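import Groth.Agent.BranchLib.One
import Mathlib.FieldTheory.IsAlgClosed.AlgebraicClosure
import Mathlib.RingTheory.Flat.FaithfullyFlat.Algebra
import Mathlib.RingTheory.TensorProduct.Maps

/-! Geometric unibranchness along radicial and faithfully flat maps. -/

set_option autoImplicit false
set_option linter.style.haveILetI false
set_option maxHeartbeats 1000000
universe u

open IsLocalRing TensorProduct

namespace HensFormalLib

noncomputable section

theorem exists_normRed_map (A R : Type u) [CommRing A] [CommRing R] [Algebra A R]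
    [IsDomain (CAlg2.red A)] [IsDomain (CAlg2.red R)]
    (hnil : ∀ a : A, algebraMap A R a ∈ nilradical R → a ∈ nilradical A) :
    ∃ (φ : FractionRing (CAlg2.red A) →+* FractionRing (CAlg2.red R)) (j : CAlg2.normRed A →+* CAlg2.normRed R),
      (∀ a, φ (algebraMap A _ a) = algebraMap R _ (algebraMap A R a)) ∧ (∀ z, (j z).1 = φ z.1) ∧
      (∀ a, j (algebraMap A _ a) = algebraMap R _ (algebraMap A R a)) := by
  let f : CAlg2.red A →+* CAlg2.red R :=
    Ideal.Quotient.lift (nilradical A) ((Ideal.Quotient.mk (nilradical R)).comp (algebraMap A R))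
      (fun a ha => Ideal.Quotient.eq_zero_iff_mem.2 ((mem_nilradical.1 ha).map (algebraMap A R)))
  have hf : Function.Injective f := (injective_iff_map_eq_zero f).2 fun z hz => by
    obtain ⟨a, rfl⟩ := Ideal.Quotient.mk_surjective z
    exact Ideal.Quotient.eq_zero_iff_mem.2 (hnil a (Ideal.Quotient.eq_zero_iff_mem.1 hz))
  let g := (algebraMap (CAlg2.red R) (FractionRing (CAlg2.red R))).comp f
  have hg : Function.Injective g := (IsFractionRing.injective _ _).comp hf
  let φ : FractionRing (CAlg2.red A) →+* FractionRing (CAlg2.red R) := IsFractionRing.lift hg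
  have hφ : ∀ z, φ (algebraMap (CAlg2.red A) _ z) = g z := IsFractionRing.lift_algebraMap hg
  have hmem : ∀ z : CAlg2.normRed A, IsIntegral (CAlg2.red R) (φ z.1) := fun z => by
    obtain ⟨P, hP, hPz⟩ := z.2
    refine ⟨P.map f, hP.map f, ?_⟩
    rw [Polynomial.eval₂_map]
    have := congrArg φ hPz
    rwa [Polynomial.hom_eval₂, map_zero, show φ.comp (algebraMap (CAlg2.red A) _) = g from RingHom.ext hφ] at this
  let j : CAlg2.normRed A →+* CAlg2.normRed R :=
    { toFun := fun z => ⟨φ z.1, hmem z⟩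
      map_one' := Subtype.ext (map_one φ)
      map_mul' := fun a b => Subtype.ext (map_mul φ a.1 b.1)
      map_zero' := Subtype.ext (map_zero φ)
      map_add' := fun a b => Subtype.ext (map_add φ a.1 b.1) }
  have h1 : ∀ a, φ (algebraMap A _ a) = algebraMap R _ (algebraMap A R a) := fun a => by
    rw [IsScalarTower.algebraMap_apply A (CAlg2.red A), hφ,
      IsScalarTower.algebraMap_apply R (CAlg2.red R) (FractionRing (CAlg2.red R))]
    rfl
  exact ⟨φ, j, h1, fun z => rfl, fun a => Subtype.ext (h1 a)⟩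

theorem residue_pow {A : Type u} [CommRing A] [IsLocalRing A] (h : CAlg2.IsGeomUnibranch A) (M : Ideal (CAlg2.normRed A))
    [M.IsMaximal] (q : ℕ) [ExpChar (ResidueField A) q] (z : CAlg2.normRed A) :
    ∃ (n : ℕ) (a : A), z ^ q ^ n - algebraMap A (CAlg2.normRed A) a ∈ M := by
  letI := Ideal.Quotient.field M
  haveI : Algebra.IsIntegral A (CAlg2.normRed A) := Algebra.IsIntegral.trans (CAlg2.red A)
  let f : A →+* CAlg2.normRed A ⧸ M := (Ideal.Quotient.mk M).comp (algebraMap A _)
  have hker : RingHom.ker f = maximalIdeal A := by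
    refine IsLocalRing.eq_maximalIdeal ?_
    rw [← RingHom.comap_ker, Ideal.mk_ker]
    exact Ideal.isMaximal_comap_of_isIntegral_of_isMaximal (R := A) M
  let g : ResidueField A →+* CAlg2.normRed A ⧸ M :=
    Ideal.Quotient.lift (maximalIdeal A) f (fun a ha => RingHom.mem_ker.1 (hker.ge ha))
  haveI : ExpChar (CAlg2.normRed A ⧸ M) q := expChar_of_injective_ringHom g.injective q
  obtain ⟨n, a, ha⟩ := @h.2 M ‹_› (Ideal.Quotient.mk M z)
  rw [ringExpChar.eq (CAlg2.normRed A ⧸ M) q] at ha
  refine ⟨n, a, ?_⟩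
  rw [← Ideal.Quotient.eq_zero_iff_mem, map_sub, map_pow, ← ha]
  exact sub_eq_zero.2 rfl

/-- An injective radicial map of local rings transports geometric unibranchness upwards. -/
theorem isGeomUnibranch_of_pow (R S : Type u) [CommRing R] [IsLocalRing R] [CommRing S] [IsLocalRing S] [Algebra R S]
    (hR : CAlg2.IsGeomUnibranch R) (q : ℕ) (hqR : ExpChar (ResidueField R) q)
    (hpow : ∀ s : S, ∃ (n : ℕ) (r : R), s ^ q ^ n = algebraMap R S r)
    (hnil : ∀ r : R, algebraMap R S r ∈ nilradical S → r ∈ nilradical R) : CAlg2.IsGeomUnibranch S := by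
  haveI := hqR
  obtain ⟨⟨hdR, hlR⟩, -⟩ := id hR
  haveI := hdR
  haveI := hlR
  have hq0 : ∀ n : ℕ, q ^ n ≠ 0 := fun n => (pow_pos (expChar_pos (ResidueField R) q) n).ne'
  have hprimeR : (nilradical R).IsPrime := (Ideal.Quotient.isDomain_iff_prime _).1 hdR
  have hprime : (nilradical S).IsPrime := by
    refine ⟨fun h => ?_, fun {x y} hxy => ?_⟩
    · have : (1 : S) ∈ nilradical S := by rw [h]; trivial
      exact not_isNilpotent_one (mem_nilradical.1 this)
    · obtain ⟨n, r, hr⟩ := hpow x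
      obtain ⟨m, r', hr'⟩ := hpow y
      have : algebraMap R S (r * r') ∈ nilradical S := by
        rw [map_mul, ← hr, ← hr']
        rcases Nat.le_total n m with h | h
        · obtain ⟨c, rfl⟩ := Nat.exists_eq_add_of_le h
          rw [show x ^ q ^ n * y ^ q ^ (n + c) = (x * y) ^ q ^ n * y ^ (q ^ (n + c) - q ^ n) by
            rw [mul_pow, mul_assoc, ← pow_add, Nat.add_sub_cancel' (Nat.pow_le_pow_right (expChar_pos (ResidueField R) q) h)]]
          exact Ideal.mul_mem_right _ _ (Ideal.pow_mem_of_mem _ hxy _ (Nat.pos_of_ne_zero (hq0 n)))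
        · obtain ⟨c, rfl⟩ := Nat.exists_eq_add_of_le h
          rw [show x ^ q ^ (m + c) * y ^ q ^ m = (x * y) ^ q ^ m * x ^ (q ^ (m + c) - q ^ m) by
            rw [mul_pow, mul_right_comm, ← pow_add, Nat.add_sub_cancel' (Nat.pow_le_pow_right (expChar_pos (ResidueField R) q) h)]]
          exact Ideal.mul_mem_right _ _ (Ideal.pow_mem_of_mem _ hxy _ (Nat.pos_of_ne_zero (hq0 m)))
      rcases hprimeR.mem_or_mem (hnil _ this) with h | h
      · left
        have h2 : IsNilpotent (x ^ q ^ n) := hr ▸ (mem_nilradical.1 h).map (algebraMap R S)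
        exact mem_nilradical.2 (h2.of_pow)
      · right
        have h2 : IsNilpotent (y ^ q ^ m) := hr' ▸ (mem_nilradical.1 h).map (algebraMap R S)
        exact mem_nilradical.2 (h2.of_pow)
  haveI : IsDomain (CAlg2.red S) := (Ideal.Quotient.isDomain_iff_prime _).2 hprime
  obtain ⟨φ, j, hφ, hj, hjA⟩ := exists_normRed_map R S hnil
  haveI : Algebra.IsIntegral R S := ⟨fun s => by
    obtain ⟨n, r, hr⟩ := hpow s
    exact ⟨Polynomial.X ^ (q ^ n) - Polynomial.C r, Polynomial.monic_X_pow_sub_C r (hq0 n), by simp [hr]⟩⟩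
  haveI : Algebra.IsIntegral R (CAlg2.red S) :=
    ⟨fun z => by
      obtain ⟨s, rfl⟩ := Ideal.Quotient.mk_surjective z
      exact (Algebra.IsIntegral.isIntegral (R := R) s).map (IsScalarTower.toAlgHom R S (CAlg2.red S))⟩
  have key : ∀ z : CAlg2.normRed S, ∃ (n : ℕ) (w : CAlg2.normRed R), z ^ q ^ n = j w := by
    intro z
    obtain ⟨a, b, hb, hab⟩ := IsFractionRing.div_surjective (CAlg2.red S) z.1
    obtain ⟨a, rfl⟩ := Ideal.Quotient.mk_surjective a
    obtain ⟨b, rfl⟩ := Ideal.Quotient.mk_surjective b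
    obtain ⟨n, r, hr⟩ := hpow a
    obtain ⟨m, r', hr'⟩ := hpow b
    let L := FractionRing (CAlg2.red S)
    let x : FractionRing (CAlg2.red R) := algebraMap R _ r ^ q ^ m / algebraMap R _ r' ^ q ^ n
    have hx : φ x = z.1 ^ q ^ (n + m) := by
      show φ (_ / _) = _
      rw [map_div₀, map_pow, map_pow, hφ, hφ, ← hr, ← hr', map_pow, map_pow, ← pow_mul, ← pow_mul, ← pow_add,
        ← pow_add, add_comm m n, ← hab, div_pow, IsScalarTower.algebraMap_apply S (CAlg2.red S) L,
        IsScalarTower.algebraMap_apply S (CAlg2.red S) L]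
      rfl
    have hxi : IsIntegral (CAlg2.red R) x := by
      have h1 : IsIntegral R (φ x) := by
        rw [hx]
        exact isIntegral_trans (R := R) (A := CAlg2.red S) _ (z.2.pow _)
      obtain ⟨P, hP, hPx⟩ := h1
      refine IsIntegral.tower_top (R := R) ⟨P, hP, φ.injective ?_⟩
      rw [Polynomial.hom_eval₂, map_zero, ← hPx, IsScalarTower.algebraMap_eq R S L]
      congr 1
      exact RingHom.ext hφ
    exact ⟨n + m, ⟨x, hxi⟩, Subtype.ext (by rw [SubmonoidClass.coe_pow, hj]; exact hx.symm)⟩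
  have hjint : j.IsIntegral := fun z => by
    obtain ⟨n, w, hw⟩ := key z
    exact ⟨Polynomial.X ^ (q ^ n) - Polynomial.C w, Polynomial.monic_X_pow_sub_C w (hq0 n), by simp [hw]⟩
  have hcomap : ∀ M : Ideal (CAlg2.normRed S), M.IsMaximal → M.comap j = maximalIdeal (CAlg2.normRed R) :=
    fun M hM => IsLocalRing.eq_maximalIdeal (by
      letI := j.toAlgebra
      haveI : Algebra.IsIntegral (CAlg2.normRed R) (CAlg2.normRed S) := ⟨hjint⟩
      exact Ideal.isMaximal_comap_of_isIntegral_of_isMaximal (R := CAlg2.normRed R) M)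
  have hmem : ∀ (M : Ideal (CAlg2.normRed S)), M.IsMaximal → ∀ z n w, z ^ q ^ n = j w →
      (z ∈ M ↔ w ∈ maximalIdeal (CAlg2.normRed R)) := fun M hM z n w hw => by
    rw [← hM.isPrime.pow_mem_iff_mem (q ^ n) (Nat.pos_of_ne_zero (hq0 n)), hw, ← hcomap M hM, Ideal.mem_comap]
  obtain ⟨M₀, hM₀⟩ := Ideal.exists_maximal (CAlg2.normRed S)
  haveI hlS : IsLocalRing (CAlg2.normRed S) := .of_unique_max_ideal ⟨M₀, hM₀, fun M hM => by
    ext z
    obtain ⟨n, w, hw⟩ := key z
    rw [hmem M hM z n w hw, hmem M₀ hM₀ z n w hw]⟩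
  refine ⟨⟨inferInstance, hlS⟩, fun M hM x => ?_⟩
  obtain ⟨z, rfl⟩ := Ideal.Quotient.mk_surjective x
  obtain ⟨n, w, hw⟩ := key z
  obtain ⟨m, a, ha⟩ := residue_pow hR (maximalIdeal (CAlg2.normRed R)) q w
  letI := Ideal.Quotient.field M
  let fM : ResidueField R →+* CAlg2.normRed S ⧸ M :=
    Ideal.Quotient.lift (maximalIdeal R) ((Ideal.Quotient.mk M).comp (j.comp (algebraMap R _))) fun r hr => by
      rw [RingHom.comp_apply, RingHom.comp_apply, Ideal.Quotient.eq_zero_iff_mem, ← Ideal.mem_comap, hcomap M hM,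
        mem_maximalIdeal, mem_nonunits_iff]
      intro hu
      haveI : Algebra.IsIntegral R (CAlg2.normRed R) := Algebra.IsIntegral.trans (CAlg2.red R)
      have h1 : (maximalIdeal (CAlg2.normRed R)).comap (algebraMap R _) = maximalIdeal R :=
        IsLocalRing.eq_maximalIdeal (Ideal.isMaximal_comap_of_isIntegral_of_isMaximal (R := R) _)
      exact (h1.ge hr : _) hu
  haveI : ExpChar (CAlg2.normRed S ⧸ M) q := expChar_of_injective_ringHom fM.injective q
  rw [ringExpChar.eq (CAlg2.normRed S ⧸ M) q]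
  refine ⟨n + m, algebraMap R S a, ?_⟩
  rw [pow_add, pow_mul, ← map_pow, hw, ← map_pow, ← map_pow]
  show Ideal.Quotient.mk M (algebraMap S (CAlg2.normRed S) (algebraMap R S a)) = _
  rw [← hjA, Ideal.Quotient.eq, ← neg_mem_iff, neg_sub, ← map_sub, ← Ideal.mem_comap, hcomap M hM]
  exact ha

/-- Maps to an algebraically closed field extend along integral maps. -/
theorem exists_lift_algClosed (S N Ω : Type u) [CommRing S] [CommRing N] [Field Ω] [IsAlgClosed Ω] [Algebra S N]
    [Algebra.IsIntegral S N] (h : S →+* Ω) (hker : RingHom.ker (algebraMap S N) ≤ RingHom.ker h) :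
    ∃ ψ : N →+* Ω, ∀ s, ψ (algebraMap S N s) = h s := by
  haveI : (RingHom.ker h).IsPrime := RingHom.ker_isPrime h
  obtain ⟨P', -, hP'p, hP'⟩ := Ideal.exists_ideal_over_prime_of_isIntegral (RingHom.ker h) (⊥ : Ideal N) hker
  haveI := hP'p
  haveI : P'.LiesOver (RingHom.ker h) := ⟨hP'.symm⟩
  letI := (RingHom.kerLift h).toAlgebra
  haveI : Module.IsTorsionFree (S ⧸ RingHom.ker h) Ω :=
    Module.isTorsionFree_iff_algebraMap_injective.2 (RingHom.kerLift_injective h)
  haveI : Algebra.IsAlgebraic (S ⧸ RingHom.ker h) (N ⧸ P') := Algebra.IsIntegral.isAlgebraic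
  let Ψ : (N ⧸ P') →ₐ[S ⧸ RingHom.ker h] Ω := IsAlgClosed.lift
  exact ⟨Ψ.toRingHom.comp (Ideal.Quotient.mk P'), fun s => Ψ.commutes (Ideal.Quotient.mk (RingHom.ker h) s)⟩

theorem hom_unique (R : Type u) [CommRing R] [IsLocalRing R] (hR : CAlg2.IsGeomUnibranch R)
    (ψ₁ ψ₂ : CAlg2.normRed R →+* AlgebraicClosure (ResidueField R))
    (h₁ : ∀ r, ψ₁ (algebraMap R _ r) = algebraMap R _ r) (h₂ : ∀ r, ψ₂ (algebraMap R _ r) = algebraMap R _ r) :
    ψ₁ = ψ₂ := by
  haveI := hR.1.1
  haveI := hR.1.2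
  let Ω := AlgebraicClosure (ResidueField R)
  obtain ⟨q, hq⟩ := ExpChar.exists (ResidueField R)
  haveI := hq
  haveI : ExpChar Ω q := expChar_of_injective_ringHom (algebraMap (ResidueField R) Ω).injective q
  haveI : Algebra.IsIntegral R (CAlg2.normRed R) := Algebra.IsIntegral.trans (CAlg2.red R)
  have hmax : ∀ ψ : CAlg2.normRed R →+* Ω, (∀ r, ψ (algebraMap R _ r) = algebraMap R _ r) →
      RingHom.ker ψ = maximalIdeal (CAlg2.normRed R) := by
    intro ψ hψ
    haveI : (RingHom.ker ψ).IsPrime := RingHom.ker_isPrime ψ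
    refine IsLocalRing.eq_maximalIdeal (Ideal.isMaximal_of_isIntegral_of_isMaximal_comap (R := R) _ ?_)
    rw [RingHom.comap_ker, show ψ.comp (algebraMap R _) = algebraMap R Ω from RingHom.ext hψ,
      IsScalarTower.algebraMap_eq R (ResidueField R) Ω,
      RingHom.ker_comp_of_injective _ (algebraMap (ResidueField R) Ω).injective, ResidueField.algebraMap_eq,
      IsLocalRing.ker_residue]
    exact maximalIdeal.isMaximal R
  refine RingHom.ext fun z => ?_
  obtain ⟨n, r, hr⟩ := residue_pow hR (maximalIdeal (CAlg2.normRed R)) q z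
  refine iterateFrobenius_inj Ω q n ?_
  rw [iterateFrobenius_def, iterateFrobenius_def]
  have e1 := RingHom.mem_ker.1 ((hmax ψ₁ h₁).ge hr)
  have e2 := RingHom.mem_ker.1 ((hmax ψ₂ h₂).ge hr)
  rw [map_sub, map_pow, h₁, sub_eq_zero] at e1
  rw [map_sub, map_pow, h₂, sub_eq_zero] at e2
  rw [e1, e2]

/-- Geometric unibranchness descends along faithfully flat local maps. -/
theorem isGeomUnibranch_of_faithfullyFlat (A R : Type u) [CommRing A] [IsLocalRing A] [CommRing R] [IsLocalRing R]
    [Algebra A R] [IsLocalHom (algebraMap A R)] [Module.Flat A R] (hR : CAlg2.IsGeomUnibranch R) :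
    CAlg2.IsGeomUnibranch A := by
  haveI : Module.FaithfullyFlat A R := Module.FaithfullyFlat.of_flat_of_isLocalHom
  obtain ⟨⟨hdR, hlR⟩, -⟩ := id hR
  haveI := hdR
  haveI := hlR
  have hinj := FaithfulSMul.algebraMap_injective A R
  have hnil : ∀ a : A, algebraMap A R a ∈ nilradical R → a ∈ nilradical A := fun a ha =>
    mem_nilradical.2 ((IsNilpotent.map_iff hinj).1 (mem_nilradical.1 ha))
  have hprime : (nilradical A).IsPrime := by
    haveI : (nilradical R).IsPrime := (Ideal.Quotient.isDomain_iff_prime _).1 hdR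
    have : nilradical A = (nilradical R).comap (algebraMap A R) :=
      le_antisymm (fun a ha => (mem_nilradical.1 ha).map _) hnil
    rw [this]; infer_instance
  haveI : IsDomain (CAlg2.red A) := (Ideal.Quotient.isDomain_iff_prime _).2 hprime
  obtain ⟨φ, j, hφ, hj, hjA⟩ := exists_normRed_map A R hnil
  let N := CAlg2.normRed A
  let N' := CAlg2.normRed R
  let jA : N →ₐ[A] N' := { j with commutes' := hjA }
  let S := R ⊗[A] N
  let Φ : S →ₐ[A] N' :=
    Algebra.TensorProduct.lift (IsScalarTower.toAlgHom A R N') jA fun _ _ => Commute.all _ _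
  have hker : ∀ s : S, Φ s = 0 → IsNilpotent s := by
    intro s hs
    have : ∃ d : A, d ∉ nilradical A ∧ ∃ c : R, d • s = c ⊗ₜ[A] (1 : N) := by
      clear hs
      induction s using TensorProduct.induction_on with
      | zero => exact ⟨1, fun h => not_isNilpotent_one (mem_nilradical.1 h), 0, by simp⟩
      | tmul r b =>
        obtain ⟨⟨x, y⟩, hxy⟩ := IsLocalization.surj (nonZeroDivisors (CAlg2.red A)) b.1
        obtain ⟨x₀, rfl⟩ := Ideal.Quotient.mk_surjective x
        obtain ⟨y₀, hy₀⟩ := Ideal.Quotient.mk_surjective (y : CAlg2.red A)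
        refine ⟨y₀, fun h => nonZeroDivisors.ne_zero y.2 (by rw [← hy₀]; exact Ideal.Quotient.eq_zero_iff_mem.2 h),
          x₀ • r, ?_⟩
        have hb : y₀ • b = x₀ • (1 : N) := Subtype.ext (by
          show y₀ • b.1 = x₀ • (1 : FractionRing (CAlg2.red A))
          rw [Algebra.smul_def, Algebra.smul_def, mul_one, IsScalarTower.algebraMap_apply A (CAlg2.red A),
            IsScalarTower.algebraMap_apply A (CAlg2.red A) _ x₀, mul_comm]
          rw [← hy₀] at hxy
          exact hxy)
        rw [← TensorProduct.tmul_smul, hb, TensorProduct.smul_tmul]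
      | add s t hs ht =>
        obtain ⟨d, hd, c, hc⟩ := hs
        obtain ⟨d', hd', c', hc'⟩ := ht
        refine ⟨d * d', fun h => (hprime.mem_or_mem h).elim hd hd', d' • c + d • c', ?_⟩
        rw [smul_add, TensorProduct.add_tmul, ← TensorProduct.smul_tmul', ← TensorProduct.smul_tmul', ← hc, ← hc',
          smul_smul, smul_smul, mul_comm d' d]
    obtain ⟨d, hd, c, hc⟩ := this
    have hc0 : algebraMap R N' c = 0 := by
      have := congrArg Φ hc
      rw [map_smul, hs, smul_zero, Algebra.TensorProduct.lift_tmul, map_one, mul_one] at this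
      exact this.symm
    have hcn : IsNilpotent c := by
      rw [IsScalarTower.algebraMap_apply R (CAlg2.red R) N'] at hc0
      refine mem_nilradical.1 (Ideal.Quotient.eq_zero_iff_mem.1 ?_)
      exact (map_eq_zero_iff (algebraMap (CAlg2.red R) (FractionRing (CAlg2.red R))) (IsFractionRing.injective _ _)).1
        (congrArg Subtype.val hc0)
    obtain ⟨n, hn⟩ := hcn
    refine ⟨n + 1, ?_⟩
    have h0 : d ^ (n + 1) • s ^ (n + 1) = 0 := by
      rw [← smul_pow, hc, Algebra.TensorProduct.tmul_pow, pow_succ, hn, zero_mul, TensorProduct.zero_tmul]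
    have hmul : Function.Injective (LinearMap.lsmul A N (d ^ (n + 1))) := fun a b hab => by
      have h3 := congrArg Subtype.val (show d ^ (n + 1) • a = d ^ (n + 1) • b from hab)
      refine Subtype.ext (mul_left_cancel₀ (a := algebraMap A (FractionRing (CAlg2.red A)) (d ^ (n + 1))) ?_ ?_)
      · rw [IsScalarTower.algebraMap_apply A (CAlg2.red A)]
        refine (map_ne_zero_iff _ (IsFractionRing.injective _ _)).2 fun h => hd ?_
        exact hprime.mem_of_pow_mem _ (Ideal.Quotient.eq_zero_iff_mem.1 h)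
      · rw [← Algebra.smul_def, ← Algebra.smul_def]; exact h3
    refine Module.Flat.lTensor_preserves_injective_linearMap (M := R) _ hmul ?_
    rw [map_zero, ← h0]
    generalize s ^ (n + 1) = z
    induction z using TensorProduct.induction_on with
    | zero => simp
    | tmul a b => rw [LinearMap.lTensor_tmul, LinearMap.lsmul_apply, TensorProduct.tmul_smul]
    | add a b ha hb => rw [map_add, ha, hb, smul_add]
  haveI : Algebra.IsIntegral R N' := Algebra.IsIntegral.trans (CAlg2.red R)
  let Ω := AlgebraicClosure (ResidueField R)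
  let ρ : R →+* Ω := algebraMap R Ω
  letI : Algebra A Ω := (ρ.comp (algebraMap A R)).toAlgebra
  have hext : ∀ σ : N →ₐ[A] Ω, ∃ ψ : N' →+* Ω, (∀ x, ψ (jA x) = σ x) ∧ ∀ r, ψ (algebraMap R N' r) = ρ r := by
    intro σ
    let h : S →ₐ[A] Ω := Algebra.TensorProduct.lift { ρ with commutes' := fun a => rfl } σ fun _ _ => Commute.all _ _
    letI := Φ.toRingHom.toAlgebra
    haveI : Algebra.IsIntegral S N' := ⟨fun z => by
      obtain ⟨P, hP, hPz⟩ := Algebra.IsIntegral.isIntegral (R := R) z
      refine ⟨P.map Algebra.TensorProduct.includeLeftRingHom, hP.map _, ?_⟩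
      rw [Polynomial.eval₂_map, show (algebraMap S N').comp Algebra.TensorProduct.includeLeftRingHom = algebraMap R N' from
        RingHom.ext fun r => by
          show Φ (r ⊗ₜ[A] 1) = _
          rw [Algebra.TensorProduct.lift_tmul, map_one, mul_one]; rfl]
      exact hPz⟩
    obtain ⟨ψ, hψ⟩ := exists_lift_algClosed S N' Ω h.toRingHom fun s hs =>
      RingHom.mem_ker.2 ((hker s (RingHom.mem_ker.1 hs)).map h.toRingHom).eq_zero
    refine ⟨ψ, fun x => ?_, fun r => ?_⟩
    · have := hψ (1 ⊗ₜ x)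
      show ψ (jA x) = σ x
      rw [show jA x = Φ (1 ⊗ₜ x) by rw [Algebra.TensorProduct.lift_tmul, map_one, one_mul]]
      refine this.trans ?_
      show h (1 ⊗ₜ x) = _
      rw [Algebra.TensorProduct.lift_tmul, map_one, one_mul]
    · have := hψ (r ⊗ₜ 1)
      rw [show algebraMap R N' r = Φ (r ⊗ₜ 1) by rw [Algebra.TensorProduct.lift_tmul, map_one, mul_one]; rfl]
      refine this.trans ?_
      show h (r ⊗ₜ 1) = _
      rw [Algebra.TensorProduct.lift_tmul, map_one, mul_one]
      rfl
  have hsub : ∀ σ τ : N →ₐ[A] Ω, σ = τ := fun σ τ => AlgHom.ext fun x => by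
    obtain ⟨ψ, hψ, hψR⟩ := hext σ
    obtain ⟨ψ', hψ', hψR'⟩ := hext τ
    rw [← hψ, ← hψ', hom_unique R hR ψ ψ' hψR hψR']
  haveI : Algebra.IsIntegral A N := Algebra.IsIntegral.trans (CAlg2.red A)
  have hρA : ∀ a ∈ maximalIdeal A, algebraMap A Ω a = 0 := fun a ha => by
    show ρ (algebraMap A R a) = 0
    show algebraMap R Ω _ = 0
    rw [IsScalarTower.algebraMap_apply R (ResidueField R) Ω, ResidueField.algebraMap_eq,
      (residue_eq_zero_iff _).2 (map_nonunit (algebraMap A R) a ha), map_zero]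
  letI : Algebra (ResidueField A) Ω := (Ideal.Quotient.lift (maximalIdeal A) (algebraMap A Ω) hρA).toAlgebra
  let ι : AlgebraicClosure (ResidueField A) →ₐ[ResidueField A] Ω := IsAlgClosed.lift
  let toΩ : ∀ M : MaximalSpectrum N, Brnch.Emb A M → (N →ₐ[A] Ω) := fun M s =>
    { (ι.toRingHom.comp (s.1.comp (Ideal.Quotient.mk M.asIdeal))) with
      commutes' := fun a => by
        show ι (s.1 (Brnch.toResidue A M a)) = _
        rw [show s.1 (Brnch.toResidue A M a) = Brnch.toClosure A a from RingHom.congr_fun s.2 a]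
        exact ι.commutes (residue A a) }
  have htoΩ : ∀ M s x, toΩ M s x = ι (s.1 (Ideal.Quotient.mk M.asIdeal x)) := fun _ _ _ => rfl
  have hone : ∀ M M' : MaximalSpectrum N, M = M' := fun M M' => by
    obtain ⟨s⟩ := (BranchLib.emb_equiv A M).1
    obtain ⟨s'⟩ := (BranchLib.emb_equiv A M').1
    letI := Ideal.Quotient.field M.asIdeal
    letI := Ideal.Quotient.field M'.asIdeal
    refine MaximalSpectrum.ext (Ideal.ext fun x => ?_)
    rw [← Ideal.Quotient.eq_zero_iff_mem, ← Ideal.Quotient.eq_zero_iff_mem,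
      ← map_eq_zero_iff s.1 s.1.injective, ← map_eq_zero_iff ι ι.toRingHom.injective, ← htoΩ M s,
      hsub (toΩ M s) (toΩ M' s'), htoΩ, map_eq_zero_iff ι ι.toRingHom.injective,
      map_eq_zero_iff s'.1 s'.1.injective]
  obtain ⟨M₀, hM₀⟩ := Ideal.exists_maximal N
  haveI hlA : IsLocalRing N := .of_unique_max_ideal
    ⟨M₀, hM₀, fun M hM => congrArg MaximalSpectrum.asIdeal (hone ⟨M, hM⟩ ⟨M₀, hM₀⟩)⟩
  refine ⟨⟨inferInstance, hlA⟩, fun M hM => (BranchLib.emb_equiv A ⟨M, hM⟩).2.1 ⟨fun s t => Subtype.ext ?_⟩⟩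
  refine RingHom.ext fun y => ι.toRingHom.injective ?_
  obtain ⟨x, rfl⟩ := Ideal.Quotient.mk_surjective y
  exact congrFun (congrArg DFunLike.coe (hsub (toΩ ⟨M, hM⟩ s) (toΩ ⟨M, hM⟩ t))) x

end

end HensFormalLib
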