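import Groth.Agent.HensFormalLib.SepClosed
import Groth.Prelude.Def_CAlg2
import Groth.Agent.GeomRedFibLib.NormalBC
import Mathlib.RingTheory.Localization.BaseChange
import Mathlib.RingTheory.Nilpotent.Lemmas

/-! Geometrically unibranch rings under normal base change. -/

set_option autoImplicit false
set_option linter.style.haveILetI false
set_option maxHeartbeats 1000000
set_option synthInstance.maxHeartbeats 400000
universe u

open EGA4 TensorProduct IsLocalRing

namespace HensFormalLib

theorem isNormalRing_of_isLocalization (T S : Type u) [CommRing T] [CommRing S] [Algebra T S] (W : Submonoid T)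
    [IsLocalization W S] (hT : IsNormalRing T) : IsNormalRing S := fun Q _ => by
  haveI : IsLocalization.AtPrime (Localization.AtPrime Q) (Q.comap (algebraMap T S)) :=
    IsLocalization.isLocalization_isLocalization_atPrime_isLocalization W _ Q
  let e := (IsLocalization.algEquiv (Q.comap (algebraMap T S)).primeCompl
    (Localization.AtPrime (Q.comap (algebraMap T S))) (Localization.AtPrime Q)).toRingEquiv
  haveI := (hT (Q.comap (algebraMap T S))).1
  haveI := (hT (Q.comap (algebraMap T S))).2
  exact ⟨e.symm.toMulEquiv.isDomain _, IsIntegrallyClosed.of_equiv e⟩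

theorem isIntegrallyClosed_of_isNormalRing (R : Type u) [CommRing R] [IsLocalRing R] (h : IsNormalRing R) :
    IsIntegrallyClosed R := by
  haveI := (h (maximalIdeal R)).2
  exact IsIntegrallyClosed.of_equiv (IsLocalization.atUnits R (maximalIdeal R).primeCompl
    (S := Localization.AtPrime (maximalIdeal R)) fun x hx => notMem_maximalIdeal.1 hx).toRingEquiv.symm

/-- A birational integral normal local extension is the normalization. -/
theorem exists_normRed_equiv (R S : Type u) [CommRing R] [CommRing S] [IsDomain S]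
    [IsIntegrallyClosed S] [Algebra R S] [Algebra.IsIntegral R S]
    (hker : RingHom.ker (algebraMap R S) = nilradical R)
    (hbir : ∀ s : S, ∃ d : R, algebraMap R S d ≠ 0 ∧ ∃ c : R, algebraMap R S d * s = algebraMap R S c) :
    IsDomain (CAlg2.red R) ∧ Nonempty (CAlg2.normRed R ≃ₐ[R] S) := by
  letI : Algebra (CAlg2.red R) S :=
    (Ideal.Quotient.lift (nilradical R) (algebraMap R S) fun a ha => RingHom.mem_ker.1 (hker.ge ha)).toAlgebra
  haveI : IsScalarTower R (CAlg2.red R) S := IsScalarTower.of_algebraMap_eq fun a => (Ideal.Quotient.lift_mk _ _ _).symm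
  have hinj : Function.Injective (algebraMap (CAlg2.red R) S) := (injective_iff_map_eq_zero _).2 fun z hz => by
    obtain ⟨a, rfl⟩ := Ideal.Quotient.mk_surjective z
    exact Ideal.Quotient.eq_zero_iff_mem.2 (hker.le (RingHom.mem_ker.2 hz))
  haveI hdom : IsDomain (CAlg2.red R) := hinj.isDomain _
  haveI : Algebra.IsIntegral (CAlg2.red R) S := Algebra.IsIntegral.tower_top (R := R)
  let L := FractionRing S
  haveI : IsScalarTower (CAlg2.red R) S L := inferInstance
  have hinjL : Function.Injective (algebraMap (CAlg2.red R) L) := by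
    rw [IsScalarTower.algebraMap_eq (CAlg2.red R) S L]
    exact (IsFractionRing.injective S L).comp hinj
  haveI : FaithfulSMul (CAlg2.red R) L := (faithfulSMul_iff_algebraMap_injective _ _).2 hinjL
  haveI : IsFractionRing (CAlg2.red R) L := by
    refine IsFractionRing.of_field _ L fun z => ?_
    obtain ⟨a, b, hb, rfl⟩ := IsFractionRing.div_surjective S z
    obtain ⟨d, hd, c, hc⟩ := hbir a
    obtain ⟨d', hd', c', hc'⟩ := hbir b
    refine ⟨Ideal.Quotient.mk _ (c * d'), Ideal.Quotient.mk _ (c' * d), ?_⟩
    rw [IsScalarTower.algebraMap_apply (CAlg2.red R) S L, IsScalarTower.algebraMap_apply (CAlg2.red R) S L]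
    show _ = algebraMap S L (algebraMap R S (c * d')) / algebraMap S L (algebraMap R S (c' * d))
    have hb0 : algebraMap S L b ≠ 0 := (map_ne_zero_iff _ (IsFractionRing.injective S L)).2 (nonZeroDivisors.ne_zero hb)
    have hd0 : algebraMap S L (algebraMap R S d) ≠ 0 := (map_ne_zero_iff _ (IsFractionRing.injective S L)).2 hd
    have hd0' : algebraMap S L (algebraMap R S d') ≠ 0 := (map_ne_zero_iff _ (IsFractionRing.injective S L)).2 hd'
    rw [map_mul (algebraMap R S) c, map_mul (algebraMap R S) c', ← hc, ← hc', map_mul, map_mul, map_mul, map_mul]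
    rw [eq_div_iff (mul_ne_zero (mul_ne_zero hd0' hb0) hd0), div_mul_eq_mul_div, div_eq_iff hb0]
    ring
  haveI : IsIntegralClosure S (CAlg2.red R) L := IsIntegralClosure.of_isIntegrallyClosed S (CAlg2.red R) L
  let e : CAlg2.normRed R ≃ₐ[CAlg2.red R] S :=
    (FractionRing.algEquiv (CAlg2.red R) L).mapIntegralClosure.trans
      (IsIntegralClosure.equiv (CAlg2.red R) (integralClosure (CAlg2.red R) L) L S)
  exact ⟨hdom, ⟨e.restrictScalars R⟩⟩

/-- A local ring with a birational integral normal local extension with purely inseparable residue extension is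
geometrically unibranch. -/
theorem isGeomUnibranch_of_birational (R S : Type u) [CommRing R] [IsLocalRing R] [CommRing S] [IsDomain S]
    [IsIntegrallyClosed S] [IsLocalRing S] [Algebra R S] [Algebra.IsIntegral R S]
    (hker : RingHom.ker (algebraMap R S) = nilradical R)
    (hbir : ∀ s : S, ∃ d : R, algebraMap R S d ≠ 0 ∧ ∃ c : R, algebraMap R S d * s = algebraMap R S c)
    (q : ℕ) [ExpChar (ResidueField R) q]
    (hins : ∀ s : S, ∃ (n : ℕ) (r : R), s ^ q ^ n - algebraMap R S r ∈ maximalIdeal S) :
    CAlg2.IsGeomUnibranch R := by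
  obtain ⟨hdom, ⟨e⟩⟩ := exists_normRed_equiv R S hker hbir
  haveI hloc : IsLocalRing (CAlg2.normRed R) := e.symm.toRingEquiv.isLocalRing
  refine ⟨⟨hdom, hloc⟩, fun m' hm' => ?_⟩
  intro x
  obtain ⟨y, rfl⟩ := Ideal.Quotient.mk_surjective x
  haveI : Algebra.IsIntegral R (CAlg2.normRed R) := Algebra.IsIntegral.trans (CAlg2.red R)
  haveI := isLocalHom_of_isIntegral R (CAlg2.normRed R)
  have hmax : m' = maximalIdeal (CAlg2.normRed R) := IsLocalRing.eq_maximalIdeal hm'
  subst hmax
  haveI : ExpChar (CAlg2.normRed R ⧸ maximalIdeal (CAlg2.normRed R)) q :=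
    expChar_of_injective_ringHom (ResidueField.map (algebraMap R (CAlg2.normRed R))).injective q
  rw [ringExpChar.eq (CAlg2.normRed R ⧸ maximalIdeal (CAlg2.normRed R)) q]
  obtain ⟨n, r, hr⟩ := hins (e y)
  refine ⟨n, r, ?_⟩
  rw [← map_pow, RingHom.comp_apply, RingHom.comp_apply, Ideal.Quotient.mk_eq_mk_iff_sub_mem]
  have h2 : y ^ q ^ n - algebraMap R (CAlg2.normRed R) r ∈ maximalIdeal (CAlg2.normRed R) := by
    rw [mem_maximalIdeal, mem_nonunits_iff] at hr ⊢
    intro hu
    apply hr
    have := hu.map e.toAlgHom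
    rwa [map_sub, map_pow, AlgHom.commutes] at this
  rw [← neg_mem_iff, neg_sub]
  exact h2

/-- A flat base change of the normalization is birational. -/
theorem exists_birational (B Rq : Type u) [CommRing B] [CommRing Rq] [Algebra B Rq] [Module.Flat B Rq]
    [IsDomain (CAlg2.red B)] [IsDomain (Rq ⊗[B] CAlg2.normRed B)] (s : Rq ⊗[B] CAlg2.normRed B) :
    ∃ d : Rq, algebraMap Rq (Rq ⊗[B] CAlg2.normRed B) d ≠ 0 ∧ ∃ c : Rq,
      algebraMap Rq (Rq ⊗[B] CAlg2.normRed B) d * s = algebraMap Rq (Rq ⊗[B] CAlg2.normRed B) c := by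
  let B' := CAlg2.normRed B
  let S := Rq ⊗[B] B'
  induction s using TensorProduct.induction_on with
  | zero => exact ⟨1, by rw [map_one]; exact one_ne_zero, 0, by simp⟩
  | tmul z b' =>
    obtain ⟨⟨x, y⟩, hxy⟩ := IsLocalization.surj (nonZeroDivisors (CAlg2.red B)) b'.1
    obtain ⟨x₀, rfl⟩ := Ideal.Quotient.mk_surjective x
    obtain ⟨y₀, hy₀⟩ := Ideal.Quotient.mk_surjective (y : CAlg2.red B)
    refine ⟨algebraMap B Rq y₀, ?_, z * algebraMap B Rq x₀, ?_⟩
    · rw [← IsScalarTower.algebraMap_apply]
      intro h0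
      have hinj : Function.Injective (LinearMap.lTensor Rq (LinearMap.lsmul B B' y₀)) :=
        Module.Flat.lTensor_preserves_injective_linearMap (M := Rq) _ fun a b hab => by
          have h3 := congrArg Subtype.val (show y₀ • a = y₀ • b from hab)
          refine Subtype.ext ((IsLocalization.map_units (FractionRing (CAlg2.red B)) y).mul_left_cancel ?_)
          rw [← hy₀]
          show algebraMap (CAlg2.red B) (FractionRing (CAlg2.red B)) (Ideal.Quotient.mk (nilradical B) y₀) * a.1 =
            algebraMap (CAlg2.red B) (FractionRing (CAlg2.red B)) (Ideal.Quotient.mk (nilradical B) y₀) * b.1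
          rw [← Ideal.Quotient.algebraMap_eq, ← IsScalarTower.algebraMap_apply, ← Algebra.smul_def, ← Algebra.smul_def]
          exact h3
      have h4 : (1 : S) = 0 := hinj (by
        rw [map_zero, Algebra.TensorProduct.one_def, LinearMap.lTensor_tmul, LinearMap.lsmul_apply,
          tmul_smul, ← Algebra.TensorProduct.one_def, ← Algebra.algebraMap_eq_smul_one, h0])
      exact one_ne_zero h4
    · have hb : y₀ • b' = x₀ • (1 : B') := Subtype.ext (by
        show y₀ • b'.1 = x₀ • (1 : FractionRing (CAlg2.red B))
        rw [Algebra.smul_def, Algebra.smul_def, mul_one, IsScalarTower.algebraMap_apply B (CAlg2.red B),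
          IsScalarTower.algebraMap_apply B (CAlg2.red B) _ x₀, mul_comm]
        rw [← hy₀] at hxy
        exact hxy)
      rw [← IsScalarTower.algebraMap_apply, ← Algebra.smul_def, ← tmul_smul, hb, tmul_smul,
        Algebra.TensorProduct.algebraMap_apply, Algebra.algebraMap_self, RingHom.id_apply, smul_tmul',
        Algebra.smul_def, mul_comm]
  | add s t hs ht =>
    obtain ⟨d, hd, c, hc⟩ := hs
    obtain ⟨d', hd', c', hc'⟩ := ht
    refine ⟨d * d', by rw [map_mul]; exact mul_ne_zero hd hd', d' * c + d * c', ?_⟩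
    rw [map_mul, map_add, map_mul, map_mul, ← hc, ← hc']
    ring

/-- Normal base change of geometrically unibranch local rings. -/
theorem geomUnibranch_bc (A A' : Type u) [CommRing A] [CommRing A'] [IsNoetherianRing A] [IsNoetherianRing A']
    [Algebra A A'] (h : IsNormalHom A A') (B : Type u) [CommRing B] [IsLocalRing B] [Algebra A B]
    (hB : CAlg2.IsGeomUnibranch B)
    (q : Ideal (B ⊗[A] A')) [q.IsPrime] (hq : q.comap (algebraMap B (B ⊗[A] A')) = maximalIdeal B) :
    CAlg2.IsGeomUnibranch (Localization.AtPrime q) ∧ (IsDomain B → IsDomain (Localization.AtPrime q)) := by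
  obtain ⟨⟨hdomB, hlocB⟩, hresB⟩ := hB
  haveI := hdomB
  haveI := hlocB
  haveI := h.1
  let R := B ⊗[A] A'
  let Rq := Localization.AtPrime q
  let B' := CAlg2.normRed B
  haveI : Algebra.IsIntegral B B' := Algebra.IsIntegral.trans (CAlg2.red B)
  haveI := isLocalHom_of_isIntegral B B'
  haveI : IsScalarTower A B Rq := inferInstance
  haveI : IsLocalHom (algebraMap B Rq) := ⟨fun b hb => by
    by_contra hb'
    have hbq : algebraMap B R b ∈ q := hq.ge hb'
    rw [IsScalarTower.algebraMap_apply B R Rq, IsLocalization.AtPrime.isUnit_to_map_iff Rq q] at hb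
    exact hb hbq⟩
  haveI : Module.Flat B R := inferInstance
  haveI : Module.Flat R Rq := IsLocalization.flat Rq q.primeCompl
  haveI : Module.Flat B Rq := Module.Flat.trans B R Rq
  haveI : Module.FaithfullyFlat B Rq := Module.FaithfullyFlat.of_flat_of_isLocalHom
  obtain ⟨p, hp⟩ := ExpChar.exists (ResidueField B)
  haveI := hp
  have hins : ∀ b : B', ∃ (n : ℕ) (a₀ : B), b ^ p ^ n - algebraMap B B' a₀ ∈ maximalIdeal B' := by
    intro b
    haveI : ExpChar (B' ⧸ maximalIdeal B') p :=
      expChar_of_injective_ringHom (ResidueField.map (algebraMap B B')).injective p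
    obtain ⟨n, a, ha⟩ := hresB (maximalIdeal B') (Ideal.Quotient.mk _ b)
    rw [ringExpChar.eq (B' ⧸ maximalIdeal B') p] at ha
    refine ⟨n, a, ?_⟩
    rw [← Ideal.Quotient.eq_zero_iff_mem, map_sub, map_pow, ← ha]
    exact sub_eq_zero.2 rfl
  let S := Rq ⊗[B] B'
  haveI : Nontrivial S := Module.FaithfullyFlat.lTensor_nontrivial B Rq _
  haveI : IsLocalRing S := isLocalRing_tensor_of_pow B Rq B' p hins
  have hS : IsNormalRing S := by
    have hB' : IsNormalRing B' := by
      haveI : IsFractionRing B' (FractionRing (CAlg2.red B)) := IsFractionRing.of_field _ _ fun z => by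
        obtain ⟨a, b, -, rfl⟩ := IsFractionRing.div_surjective (CAlg2.red B) z
        exact ⟨algebraMap _ B' a, algebraMap _ B' b, rfl⟩
      haveI : IsIntegrallyClosed B' :=
        (isIntegrallyClosed_iff_isIntegrallyClosedIn (FractionRing (CAlg2.red B))).2 inferInstance
      exact isNormalRing_of_isIntegrallyClosed B'
    have hT : IsNormalRing (R ⊗[B] B') :=
      GeomRedFibLib.isNormalRing_of_ringEquiv _ _
        ((Algebra.TensorProduct.comm A A' B').toRingEquiv.trans
          ((Algebra.TensorProduct.cancelBaseChange A B B' B' A').symm.toRingEquiv.trans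
            (Algebra.TensorProduct.comm B B' R).toRingEquiv))
        (GeomRedFibLib.isNormalRing_bc A A' h B' hB')
    exact GeomRedFibLib.isNormalRing_of_ringEquiv _ _
      ((Algebra.TensorProduct.comm R (R ⊗[B] B') Rq).toRingEquiv.trans
        (Algebra.TensorProduct.cancelBaseChange B R Rq Rq B').toRingEquiv)
      (isNormalRing_of_isLocalization (R ⊗[B] B') ((R ⊗[B] B') ⊗[R] Rq)
        (Algebra.algebraMapSubmonoid (R ⊗[B] B') q.primeCompl) hT)
  haveI hSdom : IsDomain S := isDomain_of_isNormalRing S hS
  haveI : IsIntegrallyClosed S := isIntegrallyClosed_of_isNormalRing S hS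
  have hnil : RingHom.ker (algebraMap Rq S) ≤ (nilradical B).map (algebraMap B Rq) := by
    intro z hz
    have h1 : (z ⊗ₜ[B] (1 : CAlg2.red B)) = 0 := by
      refine Module.Flat.lTensor_preserves_injective_linearMap (M := Rq)
        (IsScalarTower.toAlgHom B (CAlg2.red B) B').toLinearMap (fun a b hab => ?_) ?_
      · exact IsFractionRing.injective (CAlg2.red B) (FractionRing (CAlg2.red B)) (congrArg Subtype.val hab)
      · rw [map_zero, LinearMap.lTensor_tmul]
        have : (IsScalarTower.toAlgHom B (CAlg2.red B) B').toLinearMap 1 = 1 :=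
          map_one (IsScalarTower.toAlgHom B (CAlg2.red B) B')
        rw [this]
        exact hz
    have h2 := congrArg (Algebra.TensorProduct.quotIdealMapEquivTensorQuot Rq (nilradical B)).symm h1
    rw [map_zero] at h2
    exact Ideal.Quotient.eq_zero_iff_mem.1
      ((Algebra.TensorProduct.quotIdealMapEquivTensorQuot_symm_tmul _ _ z 1).symm.trans h2 |> fun e => by simpa using e)
  have hkerle : RingHom.ker (algebraMap Rq S) = nilradical Rq := by
    refine le_antisymm (hnil.trans (Ideal.map_le_iff_le_comap.2 fun b hb => ?_)) fun z hz => ?_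
    · exact (mem_nilradical.1 hb).map _
    · exact ((mem_nilradical.1 hz).map (algebraMap Rq S)).eq_zero
  refine ⟨?_, fun hBdom => ?_⟩
  · haveI : Algebra.IsIntegral Rq S := inferInstance
    obtain ⟨p', hp'⟩ := ExpChar.exists (ResidueField Rq)
    haveI := hp'
    have hpp : ExpChar (ResidueField Rq) p :=
      expChar_of_injective_ringHom (ResidueField.map (algebraMap B Rq)).injective p
    obtain rfl : p' = p := ExpChar.eq hp' hpp
    refine isGeomUnibranch_of_birational Rq S hkerle (fun s => ?_) p'
      (exists_pow_sub_mem B Rq B' p' hins)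
    exact exists_birational B Rq s
  · haveI := hBdom
    have hbot : RingHom.ker (algebraMap Rq S) = ⊥ := le_bot_iff.1 (hnil.trans (by
      rw [nilradical_eq_zero]; simp))
    exact ((RingHom.injective_iff_ker_eq_bot _).2 hbot).isDomain _

end HensFormalLib
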