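import Groth.Agent.HensFormalLib.Connected
import Mathlib.FieldTheory.PurelyInseparable.Basic

/-! Base change of integral local algebras over a separably closed residue field. -/

set_option autoImplicit false
set_option linter.style.haveILetI false
universe u

open TensorProduct IsLocalRing

namespace HensFormalLib

variable (A Ah B : Type u) [CommRing A] [IsLocalRing A] [CommRing Ah] [IsLocalRing Ah] [Algebra A Ah]
  [IsLocalHom (algebraMap A Ah)]
  [CommRing B] [IsLocalRing B] [Algebra A B] [Algebra.IsIntegral A B]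

theorem isLocalHom_of_isIntegral : IsLocalHom (algebraMap A B) :=
  ((IsLocalRing.local_hom_TFAE (algebraMap A B)).out 0 4).2
    (IsLocalRing.eq_maximalIdeal (Ideal.isMaximal_comap_of_isIntegral_of_isMaximal (maximalIdeal B)))

omit [Algebra.IsIntegral A B] in
/-- Power maps push a tensor product into the image of the left factor. -/
theorem exists_pow_sub_mem_sup (q : ℕ) [hqq : ExpChar (ResidueField A) q]
    (hins : ∀ b : B, ∃ (n : ℕ) (a₀ : A), b ^ q ^ n - algebraMap A B a₀ ∈ maximalIdeal B) :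
    ∀ t : Ah ⊗[A] B, ∃ (n : ℕ) (a : Ah), t ^ q ^ n - algebraMap Ah (Ah ⊗[A] B) a ∈
      (maximalIdeal Ah).map (algebraMap Ah (Ah ⊗[A] B)) ⊔
        (maximalIdeal B).map (Algebra.TensorProduct.includeRight (R := A) (A := Ah) (B := B)) := by
  let J : Ideal (Ah ⊗[A] B) :=
    (maximalIdeal Ah).map (algebraMap Ah (Ah ⊗[A] B)) ⊔
      (maximalIdeal B).map (Algebra.TensorProduct.includeRight (R := A) (A := Ah) (B := B))
  have hJ : ∀ a : A, residue A a = 0 → algebraMap A (Ah ⊗[A] B) a ∈ J := fun a ha => by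
    rw [IsScalarTower.algebraMap_apply A Ah]
    exact Ideal.mem_sup_left (Ideal.mem_map_of_mem _ (map_nonunit _ a ((residue_eq_zero_iff _).1 ha)))
  have hadd : ∀ (n : ℕ) (x y : Ah ⊗[A] B), (x + y) ^ q ^ n - (x ^ q ^ n + y ^ q ^ n) ∈ J := by
    intro n x y
    rcases hqq with _ | hq
    · simp
    · obtain ⟨r, hr⟩ := exists_add_pow_prime_pow_eq hq x y n
      rw [hr, add_sub_cancel_left]
      refine Ideal.mul_mem_right _ _ (Ideal.mul_mem_right _ _ (Ideal.mul_mem_right _ _ ?_))
      rw [← map_natCast (algebraMap A (Ah ⊗[A] B))]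
      exact hJ _ (by rw [map_natCast]; exact CharP.cast_eq_zero _ _)
  have hsub : ∀ (m : ℕ) (x y : Ah ⊗[A] B), x - y ∈ J → x ^ m - y ^ m ∈ J := fun m x y h =>
    J.mem_of_dvd (sub_dvd_pow_sub_pow x y m) h
  have hlift : ∀ (t : Ah ⊗[A] B) (n m : ℕ) (a : Ah), t ^ q ^ n - algebraMap Ah (Ah ⊗[A] B) a ∈ J →
      t ^ q ^ (n + m) - algebraMap Ah (Ah ⊗[A] B) (a ^ q ^ m) ∈ J := fun t n m a h => by
    rw [pow_add, pow_mul, map_pow]
    exact hsub _ _ _ h
  intro t
  induction t using TensorProduct.induction_on with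
  | zero => exact ⟨0, 0, by simp⟩
  | tmul a b =>
    obtain ⟨n, a₀, h⟩ := hins b
    refine ⟨n, a ^ q ^ n * algebraMap A Ah a₀, ?_⟩
    have e : (a ⊗ₜ[A] b) ^ q ^ n - algebraMap Ah (Ah ⊗[A] B) (a ^ q ^ n * algebraMap A Ah a₀) =
        algebraMap Ah (Ah ⊗[A] B) (a ^ q ^ n) *
          Algebra.TensorProduct.includeRight (R := A) (A := Ah) (B := B) (b ^ q ^ n - algebraMap A B a₀) := by
      rw [map_mul, ← IsScalarTower.algebraMap_apply A Ah, map_sub, AlgHom.commutes, mul_sub,
        Algebra.TensorProduct.tmul_pow]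
      congr 1
      simp
    rw [e]
    exact J.mul_mem_left _ (Ideal.mem_sup_right (Ideal.mem_map_of_mem _ h))
  | add x y hx hy =>
    obtain ⟨n, a, ha⟩ := hx
    obtain ⟨m, c, hc⟩ := hy
    have hx' := hlift x n m a ha
    have hy' := hlift y m n c hc
    rw [add_comm m n] at hy'
    refine ⟨n + m, a ^ q ^ m + c ^ q ^ n, ?_⟩
    have := J.add_mem (hadd (n + m) x y) (J.add_mem hx' hy')
    rw [map_add]
    convert! this using 1
    ring

/-- Tensoring an integral local algebra with purely inseparable residue extension with a local algebra gives a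
local ring. -/
theorem isLocalRing_tensor_of_pow [Nontrivial (Ah ⊗[A] B)] (q : ℕ) [hqq : ExpChar (ResidueField A) q]
    (hins : ∀ b : B, ∃ (n : ℕ) (a₀ : A), b ^ q ^ n - algebraMap A B a₀ ∈ maximalIdeal B) :
    IsLocalRing (Ah ⊗[A] B) := by
  haveI := isLocalHom_of_isIntegral A B
  let J : Ideal (Ah ⊗[A] B) :=
    (maximalIdeal Ah).map (algebraMap Ah (Ah ⊗[A] B)) ⊔
      (maximalIdeal B).map (Algebra.TensorProduct.includeRight (R := A) (A := Ah) (B := B))
  have hpow : ∀ t : Ah ⊗[A] B, ∃ (n : ℕ) (a : Ah), t ^ q ^ n - algebraMap Ah (Ah ⊗[A] B) a ∈ J :=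
    exists_pow_sub_mem_sup A Ah B q hins
  haveI : Algebra.IsIntegral Ah (Ah ⊗[A] B) := inferInstance
  have hle : ∀ M : Ideal (Ah ⊗[A] B), M.IsMaximal → J ≤ M ∧
      M.comap (algebraMap Ah (Ah ⊗[A] B)) = maximalIdeal Ah := by
    intro M hM
    haveI := hM
    have h1 : M.comap (algebraMap Ah (Ah ⊗[A] B)) = maximalIdeal Ah :=
      IsLocalRing.eq_maximalIdeal (Ideal.isMaximal_comap_of_isIntegral_of_isMaximal M)
    refine ⟨sup_le (Ideal.map_le_iff_le_comap.2 h1.ge) (Ideal.map_le_iff_le_comap.2 ?_), h1⟩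
    intro b hb
    let N := M.comap (Algebra.TensorProduct.includeRight (R := A) (A := Ah) (B := B)).toRingHom
    have hN : N.IsPrime := Ideal.IsPrime.comap _
    have h3 : maximalIdeal A ≤ N.comap (algebraMap A B) := fun a ha => by
      show (Algebra.TensorProduct.includeRight (R := A) (A := Ah) (B := B)) (algebraMap A B a) ∈ M
      rw [AlgHom.commutes, IsScalarTower.algebraMap_apply A Ah, ← Ideal.mem_comap, h1]
      exact map_nonunit _ a ha
    haveI := hN
    haveI : (N.comap (algebraMap A B)).IsMaximal := by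
      rw [← (maximalIdeal.isMaximal A).eq_of_le (Ideal.IsPrime.comap _).ne_top h3]
      exact maximalIdeal.isMaximal A
    have hmax : N.IsMaximal := Ideal.isMaximal_of_isIntegral_of_isMaximal_comap N ‹_›
    rw [← IsLocalRing.eq_maximalIdeal hmax] at hb
    exact hb
  obtain ⟨M, hM⟩ := Ideal.exists_maximal (Ah ⊗[A] B)
  refine IsLocalRing.of_unique_max_ideal ⟨M, hM, fun N hN => hN.eq_of_le hM.ne_top fun t ht => ?_⟩
  obtain ⟨n, a, hn⟩ := hpow t
  haveI := hN
  haveI := hM
  have hq0 : q ^ n ≠ 0 := (pow_pos (expChar_pos (ResidueField A) q) n).ne'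
  have ha : algebraMap Ah (Ah ⊗[A] B) a ∈ N := by
    simpa using N.sub_mem (N.pow_mem_of_mem ht _ (Nat.pos_of_ne_zero hq0)) ((hle N hN).1 hn)
  have haM : algebraMap Ah (Ah ⊗[A] B) a ∈ M := by
    have : a ∈ M.comap (algebraMap Ah (Ah ⊗[A] B)) := by
      rw [(hle M hM).2, ← (hle N hN).2]; exact ha
    exact this
  refine hM.isPrime.mem_of_pow_mem (q ^ n) ?_
  simpa using M.add_mem ((hle M hM).1 hn) haM

/-- Tensoring an integral local algebra with a local algebra over a separably closed residue field gives a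
local ring. -/
theorem isLocalRing_tensor_of_isSepClosed [Nontrivial (Ah ⊗[A] B)] [IsSepClosed (ResidueField A)] :
    IsLocalRing (Ah ⊗[A] B) := by
  haveI := isLocalHom_of_isIntegral A B
  obtain ⟨q, hqq⟩ := ExpChar.exists (ResidueField A)
  haveI := hqq
  haveI : Algebra.IsAlgebraic (ResidueField A) (ResidueField B) := by
    refine ⟨fun x => ?_⟩
    obtain ⟨b, rfl⟩ := residue_surjective x
    have h1 : IsIntegral A (residue B b) :=
      (Algebra.IsIntegral.isIntegral b).map (IsScalarTower.toAlgHom A B (ResidueField B))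
    exact h1.tower_top.isAlgebraic
  haveI : IsPurelyInseparable (ResidueField A) (ResidueField B) := inferInstance
  have hins : ∀ b : B, ∃ (n : ℕ) (a₀ : A), b ^ q ^ n - algebraMap A B a₀ ∈ maximalIdeal B := by
    intro b
    obtain ⟨n, y, hy⟩ := IsPurelyInseparable.pow_mem (ResidueField A) q (residue B b)
    obtain ⟨a₀, rfl⟩ := residue_surjective y
    refine ⟨n, a₀, (residue_eq_zero_iff _).1 ?_⟩
    rw [map_sub, map_pow, ← hy]
    exact sub_eq_zero.2 rfl
  exact isLocalRing_tensor_of_pow A Ah B q hins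

/-- Power maps push the local tensor product to the left factor modulo its maximal ideal. -/
theorem exists_pow_sub_mem [IsLocalRing (Ah ⊗[A] B)] (q : ℕ) [ExpChar (ResidueField A) q]
    (hins : ∀ b : B, ∃ (n : ℕ) (a₀ : A), b ^ q ^ n - algebraMap A B a₀ ∈ maximalIdeal B) :
    ∀ t : Ah ⊗[A] B, ∃ (n : ℕ) (a : Ah), t ^ q ^ n - algebraMap Ah (Ah ⊗[A] B) a ∈ maximalIdeal (Ah ⊗[A] B) := by
  haveI := isLocalHom_of_isIntegral A B
  intro t
  obtain ⟨n, a, h⟩ := exists_pow_sub_mem_sup A Ah B q hins t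
  suffices hle : (maximalIdeal Ah).map (algebraMap Ah (Ah ⊗[A] B)) ⊔
      (maximalIdeal B).map (Algebra.TensorProduct.includeRight (R := A) (A := Ah) (B := B)) ≤
      maximalIdeal (Ah ⊗[A] B) from ⟨n, a, hle h⟩
  refine sup_le ?_ ?_
  · haveI : Algebra.IsIntegral Ah (Ah ⊗[A] B) := inferInstance
    exact Ideal.map_le_iff_le_comap.2 (IsLocalRing.eq_maximalIdeal
        (Ideal.isMaximal_comap_of_isIntegral_of_isMaximal (R := Ah) (maximalIdeal (Ah ⊗[A] B)))).ge
  · refine Ideal.map_le_iff_le_comap.2 ?_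
    haveI : Algebra.IsIntegral Ah (Ah ⊗[A] B) := inferInstance
    have h1 : (maximalIdeal (Ah ⊗[A] B)).comap (algebraMap Ah (Ah ⊗[A] B)) = maximalIdeal Ah :=
      IsLocalRing.eq_maximalIdeal (Ideal.isMaximal_comap_of_isIntegral_of_isMaximal (R := Ah) (maximalIdeal (Ah ⊗[A] B)))
    let N := (maximalIdeal (Ah ⊗[A] B)).comap (Algebra.TensorProduct.includeRight (R := A) (A := Ah) (B := B)).toRingHom
    haveI hN : N.IsPrime := Ideal.IsPrime.comap _
    have h3 : maximalIdeal A ≤ N.comap (algebraMap A B) := fun a ha => by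
      show (Algebra.TensorProduct.includeRight (R := A) (A := Ah) (B := B)) (algebraMap A B a) ∈ maximalIdeal (Ah ⊗[A] B)
      rw [AlgHom.commutes, IsScalarTower.algebraMap_apply A Ah, ← Ideal.mem_comap, h1]
      exact map_nonunit _ a ha
    haveI : (N.comap (algebraMap A B)).IsMaximal := by
      rw [← (maximalIdeal.isMaximal A).eq_of_le (Ideal.IsPrime.comap _).ne_top h3]
      exact maximalIdeal.isMaximal A
    exact (IsLocalRing.eq_maximalIdeal (Ideal.isMaximal_of_isIntegral_of_isMaximal_comap N ‹_›)).ge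

end HensFormalLib
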