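import Groth.Prelude.Def_EGA4b
import Groth.Agent.GeomRedFibLib.NormalBC
import Groth.Agent.GeomRedFibLib.CplFibres
import Groth.Agent.GeomRedFibLib.Normal
import Groth.Agent.HensGRingLib.J2
import Groth.Agent.SweepSix.TensorDomain
import Mathlib.FieldTheory.IsAlgClosed.AlgebraicClosure
import Mathlib.RingTheory.Algebraic.Integral

/-! Formal fibres of henselian local rings with geometrically normal formal fibres. -/

set_option autoImplicit false
set_option linter.style.haveILetI false
universe u

open EGA4 TensorProduct IsLocalRing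

namespace HensFormalLib

/-- An integral domain integral over a henselian local ring is local. -/
theorem isLocalRing_of_integral_domain (A B : Type u) [CommRing A] [HenselianLocalRing A] [CommRing B] [IsDomain B]
    [Algebra A B] [Algebra.IsIntegral A B] : IsLocalRing B := by
  refine IsLocalRing.of_unique_max_ideal ?_
  obtain ⟨M, hM⟩ := Ideal.exists_maximal B
  refine ⟨M, hM, fun N hN => ?_⟩
  refine (hN.eq_of_le hM.ne_top fun x hx => ?_)
  haveI := hM
  haveI := hN
  let C := Algebra.adjoin A ({x} : Set B)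
  haveI : Module.Finite A C :=
    Module.Finite.iff_fg.mpr (IsIntegral.fg_adjoin_singleton (Algebra.IsIntegral.isIntegral x))
  haveI := HensGRingLib.isLocalRing_of_finite_domain A C
  haveI : Algebra.IsIntegral C B := Algebra.IsIntegral.tower_top (R := A)
  have h1 : (M.comap (algebraMap C B)).IsMaximal := Ideal.isMaximal_comap_of_isIntegral_of_isMaximal M
  have h2 : (N.comap (algebraMap C B)).IsMaximal := Ideal.isMaximal_comap_of_isIntegral_of_isMaximal N
  have hmem : (⟨x, Algebra.subset_adjoin rfl⟩ : C) ∈ N.comap (algebraMap C B) := hx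
  rw [IsLocalRing.eq_maximalIdeal h2, ← IsLocalRing.eq_maximalIdeal h1] at hmem
  exact hmem

variable (A Ah B : Type u) [CommRing A] [IsLocalRing A] [CommRing Ah] [IsLocalRing Ah] [Algebra A Ah]
  [CommRing B] [IsLocalRing B] [Algebra A B] [Algebra.IsIntegral A B]

/-- Tensoring an integral local algebra with a local algebra with the same residue field gives a local ring. -/
theorem isLocalRing_tensor [Nontrivial (Ah ⊗[A] B)]
    (hres : ∀ a : Ah, ∃ a₀ : A, a - algebraMap A Ah a₀ ∈ maximalIdeal Ah) : IsLocalRing (Ah ⊗[A] B) := by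
  let J : Ideal (Ah ⊗[A] B) :=
    (maximalIdeal Ah).map (algebraMap Ah (Ah ⊗[A] B)) ⊔
      (maximalIdeal B).map (Algebra.TensorProduct.includeRight (R := A) (A := Ah) (B := B))
  have hsurj : ∀ t : Ah ⊗[A] B, ∃ b : B, t - 1 ⊗ₜ b ∈ J := by
    intro t
    induction t using TensorProduct.induction_on with
    | zero => exact ⟨0, by simp⟩
    | tmul a b =>
      obtain ⟨a₀, ha₀⟩ := hres a
      refine ⟨a₀ • b, Ideal.mem_sup_left ?_⟩
      have : a ⊗ₜ[A] b - (1 : Ah) ⊗ₜ[A] (a₀ • b) =
          algebraMap Ah (Ah ⊗[A] B) (a - algebraMap A Ah a₀) * ((1 : Ah) ⊗ₜ[A] b) := by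
        rw [Algebra.TensorProduct.algebraMap_apply, Algebra.algebraMap_self, RingHom.id_apply,
          Algebra.TensorProduct.tmul_mul_tmul, mul_one, one_mul, TensorProduct.sub_tmul, ← TensorProduct.smul_tmul,
          Algebra.smul_def, mul_one]
      rw [this]
      exact Ideal.mul_mem_right _ _ (Ideal.mem_map_of_mem _ ha₀)
    | add x y hx hy =>
      obtain ⟨b, hb⟩ := hx
      obtain ⟨c, hc⟩ := hy
      exact ⟨b + c, by rw [TensorProduct.tmul_add, add_sub_add_comm]; exact J.add_mem hb hc⟩
  haveI : Algebra.IsIntegral Ah (Ah ⊗[A] B) := inferInstance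
  have hle : ∀ M : Ideal (Ah ⊗[A] B), M.IsMaximal → J ≤ M ∧
      M.comap (Algebra.TensorProduct.includeRight (R := A) (A := Ah) (B := B)) = maximalIdeal B := by
    intro M hM
    haveI := hM
    have h1 : M.comap (algebraMap Ah (Ah ⊗[A] B)) = maximalIdeal Ah :=
      IsLocalRing.eq_maximalIdeal (Ideal.isMaximal_comap_of_isIntegral_of_isMaximal M)
    have h2 : M.comap (Algebra.TensorProduct.includeRight (R := A) (A := Ah) (B := B)) = maximalIdeal B := by
      refine IsLocalRing.eq_maximalIdeal ?_
      let f : B →+* (Ah ⊗[A] B) ⧸ M :=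
        (Ideal.Quotient.mk M).comp (Algebra.TensorProduct.includeRight (R := A) (A := Ah) (B := B)).toRingHom
      haveI : (RingHom.ker f).IsPrime := RingHom.ker_isPrime f
      have hker : RingHom.ker f = M.comap (Algebra.TensorProduct.includeRight (R := A) (A := Ah) (B := B)) := by
        ext b; simp [f, RingHom.mem_ker, Ideal.Quotient.eq_zero_iff_mem]
      rw [← hker]
      letI := Ideal.Quotient.field M
      refine RingHom.ker_isMaximal_of_surjective f fun z => ?_
      obtain ⟨t, rfl⟩ := Ideal.Quotient.mk_surjective z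
      induction t using TensorProduct.induction_on with
      | zero => exact ⟨0, by simp⟩
      | tmul a b =>
        obtain ⟨a₀, ha₀⟩ := hres a
        refine ⟨a₀ • b, ?_⟩
        have hmem : algebraMap Ah (Ah ⊗[A] B) (a - algebraMap A Ah a₀) * ((1 : Ah) ⊗ₜ[A] b) ∈ M :=
          Ideal.mul_mem_right _ _ (Ideal.mem_comap.1 (h1.symm ▸ ha₀))
        rw [Algebra.TensorProduct.algebraMap_apply, Algebra.algebraMap_self, RingHom.id_apply,
          Algebra.TensorProduct.tmul_mul_tmul, mul_one, one_mul, TensorProduct.sub_tmul,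
          Algebra.algebraMap_eq_smul_one, TensorProduct.smul_tmul] at hmem
        exact ((Ideal.Quotient.mk_eq_mk_iff_sub_mem _ _).2 hmem).symm
      | add x y hx hy =>
        obtain ⟨b, hb⟩ := hx
        obtain ⟨c, hc⟩ := hy
        exact ⟨b + c, by rw [map_add, hb, hc, map_add]⟩
    exact ⟨sup_le (Ideal.map_le_iff_le_comap.2 h1.ge) (Ideal.map_le_iff_le_comap.2 h2.ge), h2⟩
  obtain ⟨M, hM⟩ := Ideal.exists_maximal (Ah ⊗[A] B)
  refine IsLocalRing.of_unique_max_ideal ⟨M, hM, fun N hN => hN.eq_of_le hM.ne_top fun t ht => ?_⟩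
  obtain ⟨b, hb⟩ := hsurj t
  have hbN : (1 : Ah) ⊗ₜ[A] b ∈ N := by
    simpa using N.sub_mem ht ((hle N hN).1 hb)
  have hbM : (1 : Ah) ⊗ₜ[A] b ∈ M := by
    have : b ∈ M.comap (Algebra.TensorProduct.includeRight (R := A) (A := Ah) (B := B)) := by
      rw [(hle M hM).2, ← (hle N hN).2]; exact hbN
    exact this
  simpa using M.add_mem ((hle M hM).1 hb) hbM

omit [IsLocalRing A] [IsLocalRing Ah] [IsLocalRing B] [Algebra.IsIntegral A B] in
/-- Localizing the right factor keeps a flat tensor product a domain. -/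
theorem isDomain_tensor_fractionField [Module.Flat A Ah] [IsDomain (Ah ⊗[A] B)] (L : Type u) [Field L]
    [Algebra A L] [Algebra B L] [IsScalarTower A B L] [Nontrivial (Ah ⊗[A] L)]
    (hinj : Function.Injective (algebraMap B L))
    (hfrac : ∀ x : L, ∃ (b c : B), b ≠ 0 ∧ algebraMap B L b * x = algebraMap B L c) : IsDomain (Ah ⊗[A] L) := by
  let f : Ah ⊗[A] B →ₐ[A] Ah ⊗[A] L := Algebra.TensorProduct.map (AlgHom.id A Ah) (IsScalarTower.toAlgHom A B L)
  have hf : Function.Injective f :=
    Module.Flat.lTensor_preserves_injective_linearMap (M := Ah) (IsScalarTower.toAlgHom A B L).toLinearMap hinj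
  have hden : ∀ z : Ah ⊗[A] L, ∃ b : B, b ≠ 0 ∧ f (1 ⊗ₜ b) * z ∈ f.range := by
    intro z
    induction z using TensorProduct.induction_on with
    | zero => exact ⟨1, fun h => one_ne_zero (α := L) (by rw [← map_one (algebraMap B L), h, map_zero]),
        by rw [mul_zero]; exact zero_mem _⟩
    | tmul a x =>
      obtain ⟨b, c, hb, hc⟩ := hfrac x
      exact ⟨b, hb, a ⊗ₜ c, by simp [f, hc]⟩
    | add x y hx hy =>
      obtain ⟨b, hb, hbx⟩ := hx
      obtain ⟨c, hc, hcy⟩ := hy
      haveI : IsDomain B := hinj.isDomain _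
      refine ⟨b * c, mul_ne_zero hb hc, ?_⟩
      have e : f (1 ⊗ₜ (b * c)) * (x + y) =
          f (1 ⊗ₜ c) * (f (1 ⊗ₜ b) * x) + f (1 ⊗ₜ b) * (f (1 ⊗ₜ c) * y) := by
        rw [show (1 : Ah) ⊗ₜ[A] (b * c) = (1 ⊗ₜ b) * (1 ⊗ₜ c) by simp, map_mul]
        ring
      rw [e]
      exact add_mem (mul_mem ⟨_, rfl⟩ hbx) (mul_mem ⟨_, rfl⟩ hcy)
  have hunit : ∀ b : B, b ≠ 0 → IsUnit (f ((1 : Ah) ⊗ₜ[A] b)) := by
    intro b hb
    refine (IsUnit.map (Algebra.TensorProduct.includeRight (R := A) (A := Ah) (B := L))
      (isUnit_iff_ne_zero.2 ((map_ne_zero_iff _ hinj).2 hb)))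
  have : NoZeroDivisors (Ah ⊗[A] L) := by
    refine ⟨fun {z w} h => ?_⟩
    obtain ⟨b, hb, s, hs⟩ := hden z
    obtain ⟨c, hc, t, ht⟩ := hden w
    have h0 : s * t = 0 := hf (by
      rw [map_mul, map_zero]
      show (f.toRingHom s) * (f.toRingHom t) = 0
      rw [hs, ht, mul_mul_mul_comm, h, mul_zero])
    rcases mul_eq_zero.1 h0 with h1 | h1
    · left; rw [h1, map_zero] at hs; exact (hunit b hb).mul_right_eq_zero.1 hs.symm
    · right; rw [h1, map_zero] at ht; exact (hunit c hc).mul_right_eq_zero.1 ht.symm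
  exact NoZeroDivisors.to_isDomain _

/-- An integrally closed domain is a normal ring. -/
theorem isNormalRing_of_isIntegrallyClosed (R : Type u) [CommRing R] [IsDomain R] [IsIntegrallyClosed R] :
    IsNormalRing R := fun q _ =>
  ⟨IsLocalization.isDomain_localization q.primeCompl_le_nonZeroDivisors,
    isIntegrallyClosed_of_isLocalization _ q.primeCompl q.primeCompl_le_nonZeroDivisors⟩

/-- A normal local ring is a domain. -/
theorem isDomain_of_isNormalRing (R : Type u) [CommRing R] [IsLocalRing R] (h : IsNormalRing R) : IsDomain R := by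
  haveI := (h (maximalIdeal R)).1
  exact (IsLocalization.atUnits R (maximalIdeal R).primeCompl
    (S := Localization.AtPrime (maximalIdeal R)) fun x hx => notMem_maximalIdeal.1 hx).toRingEquiv.toMulEquiv.isDomain _

/-- Domains over an algebraic closure stay domains over every field. -/
theorem isDomain_bc_of_algClosure (k F : Type u) [Field k] [CommRing F] [Algebra k F]
    [IsDomain (AlgebraicClosure k ⊗[k] F)] (K : Type u) [Field K] [Algebra k K] : IsDomain (K ⊗[k] F) := by
  let L := AlgebraicClosure k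
  let M := AlgebraicClosure K
  let ι : L →ₐ[k] M := IsAlgClosed.lift
  letI : Algebra L M := ι.toRingHom.toAlgebra
  haveI : IsScalarTower k L M := IsScalarTower.of_algebraMap_eq fun x => (ι.commutes x).symm
  haveI : IsDomain (M ⊗[L] (L ⊗[k] F)) := SweepSix.isDomain_tensor M _
  haveI : IsDomain (M ⊗[k] F) :=
    (Algebra.TensorProduct.cancelBaseChange k L M M F).symm.toRingEquiv.toMulEquiv.isDomain _
  let f : K ⊗[k] F →ₐ[k] M ⊗[k] F :=
    Algebra.TensorProduct.map (IsScalarTower.toAlgHom k K M) (AlgHom.id _ _)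
  have hf : Function.Injective f := Module.Flat.rTensor_preserves_injective_linearMap (M := F)
    (IsScalarTower.toAlgHom k K M).toLinearMap (algebraMap K M).injective
  exact hf.isDomain

theorem isDomain_cpl_tensor_algClosed (A : Type u) [CommRing A] [HenselianLocalRing A] [IsNoetherianRing A]
    (hA : HasGeomNormalFormalFibres A) (p : Ideal A) [p.IsPrime] :
    IsDomain (Cpl A ⊗[A] AlgebraicClosure p.ResidueField) := by
  let L := AlgebraicClosure p.ResidueField
  let B := integralClosure A L
  haveI : Module.Flat A (Cpl A) := AdicCompletion.flat_of_isNoetherian _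
  haveI := GeomRedFibLib.isNoetherianRing_cpl A
  haveI : IsIntegrallyClosedIn B L := inferInstance
  have hfrac : ∀ x : L, ∃ (b c : B), b ≠ 0 ∧ algebraMap B L b * x = algebraMap B L c := by
    intro x
    haveI : IsScalarTower (A ⧸ p) p.ResidueField L := inferInstance
    haveI : IsScalarTower A (A ⧸ p) L := IsScalarTower.of_algebraMap_eq fun a => by
      rw [IsScalarTower.algebraMap_apply A p.ResidueField L, IsScalarTower.algebraMap_apply A (A ⧸ p) p.ResidueField]
      rfl
    have halg : IsAlgebraic (A ⧸ p) x :=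
      (IsFractionRing.isAlgebraic_iff (A ⧸ p) p.ResidueField L).2 (Algebra.IsAlgebraic.isAlgebraic x)
    obtain ⟨y, hy, hint⟩ := halg.exists_integral_multiple
    obtain ⟨a, rfl⟩ := Ideal.Quotient.mk_surjective y
    have hne : algebraMap A L a ≠ 0 := by
      rw [IsScalarTower.algebraMap_apply A (A ⧸ p) L]
      refine (map_ne_zero_iff _ ?_).2 hy
      exact (algebraMap p.ResidueField L).injective.comp (IsFractionRing.injective (A ⧸ p) p.ResidueField)
    refine ⟨algebraMap A B a, ⟨_, isIntegral_trans (R := A) (A := A ⧸ p) _ hint⟩, ?_, ?_⟩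
    · intro h
      exact hne (congrArg Subtype.val h)
    · show algebraMap A L a * x = (Ideal.Quotient.mk p a) • x
      rw [Algebra.smul_def, IsScalarTower.algebraMap_apply A (A ⧸ p) L]
      rfl
  have hinj : Function.Injective (algebraMap B L) := Subtype.val_injective
  haveI : IsFractionRing B L := by
    refine IsFractionRing.of_field B L fun x => ?_
    obtain ⟨b, c, hb, h⟩ := hfrac x
    refine ⟨c, b, ?_⟩
    rw [← h, mul_comm, mul_div_assoc, div_self ((map_ne_zero_iff _ hinj).2 hb), mul_one]
  haveI : IsIntegrallyClosed B := (isIntegrallyClosed_iff_isIntegrallyClosedIn L).2 inferInstance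
  haveI := isLocalRing_of_integral_domain A B
  haveI : Nontrivial (Cpl A ⊗[A] B) := by
    haveI : Module.FaithfullyFlat A (Cpl A) := GeomRedFibLib.faithfullyFlat_hat A
    exact Module.FaithfullyFlat.lTensor_nontrivial A (Cpl A) _
  haveI : Nontrivial (Cpl A ⊗[A] L) := by
    haveI : Module.FaithfullyFlat A (Cpl A) := GeomRedFibLib.faithfullyFlat_hat A
    exact Module.FaithfullyFlat.lTensor_nontrivial A (Cpl A) _
  haveI : IsLocalRing (Cpl A) := inferInstance
  haveI : IsLocalRing (Cpl A ⊗[A] B) := by
    refine isLocalRing_tensor A (Cpl A) B fun a => ?_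
    obtain ⟨a₀, ha₀⟩ := Submodule.Quotient.mk_surjective _ (a.1 1)
    refine ⟨a₀, (AdicCompletion.mem_maximalIdeal_iff_eval_one_eq_zero _).2 ?_⟩
    show a.1 1 - (algebraMap A (Cpl A) a₀).1 1 = 0
    exact sub_eq_zero.2 ha₀.symm
  have hnorm : IsNormalRing (Cpl A ⊗[A] B) :=
    GeomRedFibLib.isNormalRing_bc A (Cpl A) ⟨inferInstance, hA⟩ B (isNormalRing_of_isIntegrallyClosed B)
  haveI := isDomain_of_isNormalRing _ hnorm
  exact isDomain_tensor_fractionField A (Cpl A) B L hinj hfrac

/-- The formal fibres of a henselian local ring with geometrically normal formal fibres are geometrically integral. -/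
theorem isDomain_formalFibre_bc (A : Type u) [CommRing A] [HenselianLocalRing A] [IsNoetherianRing A]
    (hA : HasGeomNormalFormalFibres A) (p : Ideal A) [p.IsPrime] (K : Type u) [Field K] [Algebra p.ResidueField K] :
    IsDomain (K ⊗[p.ResidueField] formalFibre A p) := by
  let L := AlgebraicClosure p.ResidueField
  haveI hL : IsDomain (L ⊗[p.ResidueField] formalFibre A p) := by
    haveI := isDomain_cpl_tensor_algClosed A hA p
    exact ((Algebra.TensorProduct.cancelBaseChange A p.ResidueField L L (Cpl A)).toRingEquiv.trans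
      (Algebra.TensorProduct.comm A L (Cpl A)).toRingEquiv).toMulEquiv.isDomain _
  exact isDomain_bc_of_algClosure p.ResidueField (formalFibre A p) K

end HensFormalLib
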