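import Groth.Agent.HensFormalLib.GeomUnibranch
import Groth.Agent.SweepSix.FieldsRed
import Mathlib.AlgebraicGeometry.Noetherian
import Mathlib.AlgebraicGeometry.Stalk

/-! Global connectedness of complements over geometrically unibranch bases. -/

set_option autoImplicit false
set_option linter.style.haveILetI false
set_option maxHeartbeats 1000000
universe u

open CategoryTheory CategoryTheory.Limits AlgebraicGeometry TopologicalSpace

namespace HensFormalLib

theorem isClosed_of_specializes_noetherian {U : Type u} [TopologicalSpace U] [NoetherianSpace U]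
    [QuasiSober U] {P : Set U} (h1 : ∀ {a b : U}, a ⤳ b → a ∈ P → b ∈ P)
    (h2 : ∀ {a b : U}, a ⤳ b → b ∈ P → a ∈ P) : IsClosed P := by
  have : P = ⋃ Z ∈ {Z ∈ irreducibleComponents U | (Z ∩ P).Nonempty}, Z := by
    ext a
    simp only [Set.mem_iUnion, Set.mem_setOf_eq, exists_prop]
    constructor
    · intro ha
      exact ⟨irreducibleComponent a, ⟨irreducibleComponent_mem_irreducibleComponents a,
        a, mem_irreducibleComponent, ha⟩, mem_irreducibleComponent⟩
    · rintro ⟨Z, ⟨hZ, z, hzZ, hzP⟩, haZ⟩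
      obtain ⟨η, hη⟩ := QuasiSober.sober hZ.1 (isClosed_of_mem_irreducibleComponents Z hZ)
      have hz' : η ⤳ z := specializes_iff_mem_closure.2 (hη.symm ▸ hzZ)
      have ha' : η ⤳ a := specializes_iff_mem_closure.2 (hη.symm ▸ haZ)
      exact h1 ha' (h2 hz' hzP)
  rw [this]
  exact (NoetherianSpace.finite_irreducibleComponents.subset fun Z hZ => hZ.1).isClosed_biUnion
    fun Z hZ => isClosed_of_mem_irreducibleComponents Z hZ.1

/-- A subset of a locally Noetherian scheme stable under specialization and generization is closed. -/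
theorem isClosed_of_specializes (X : Scheme.{u}) [IsLocallyNoetherian X] {P : Set X}
    (h1 : ∀ {a b : X}, a ⤳ b → a ∈ P → b ∈ P) (h2 : ∀ {a b : X}, a ⤳ b → b ∈ P → a ∈ P) : IsClosed P := by
  rw [← isOpen_compl_iff, isOpen_iff_forall_mem_open]
  intro x hx
  obtain ⟨_, ⟨U, hU, rfl⟩, hxU, -⟩ := X.isBasis_affineOpens.exists_subset_of_mem_open (Set.mem_univ x) isOpen_univ
  haveI : IsAffine (U : Scheme.{u}) := hU
  haveI : IsNoetherian (U : Scheme.{u}) := {}
  have hc : IsClosed ((Scheme.Opens.ι U) ⁻¹' P) :=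
    isClosed_of_specializes_noetherian (fun h ha => h1 (h.map (Scheme.Opens.ι U).continuous) ha)
      (fun h hb => h2 (h.map (Scheme.Opens.ι U).continuous) hb)
  refine ⟨(Scheme.Opens.ι U) '' ((Scheme.Opens.ι U) ⁻¹' P)ᶜ, ?_, (Scheme.Opens.ι U).isOpenEmbedding.isOpenMap _ hc.isOpen_compl, ?_⟩
  · rintro _ ⟨a, ha, rfl⟩ h
    exact ha h
  · exact ⟨⟨x, hxU⟩, hx, rfl⟩

/-- The closure of a maximal point of a locally Noetherian scheme has nonempty interior. -/
theorem interior_closure_nonempty (Y : Scheme.{u}) [IsLocallyNoetherian Y] (η : Y)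
    (h : ∀ z : Y, z ⤳ η → η ⤳ z) : (interior (closure ({η} : Set Y))).Nonempty := by
  obtain ⟨_, ⟨U, hU, rfl⟩, hxU, -⟩ := Y.isBasis_affineOpens.exists_subset_of_mem_open (Set.mem_univ η) isOpen_univ
  haveI : IsAffine (U : Scheme.{u}) := hU
  haveI : IsNoetherian (U : Scheme.{u}) := {}
  let η' : (U : Scheme.{u}) := ⟨η, hxU⟩
  obtain ⟨g, hg⟩ := QuasiSober.sober (α := (U : Scheme.{u})) (irreducibleComponent_mem_irreducibleComponents η').1
    isClosed_irreducibleComponent
  have hgη : g ⤳ η' := specializes_iff_mem_closure.2 (hg.symm ▸ mem_irreducibleComponent)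
  have hηg : η' ⤳ g := (Scheme.Opens.ι U).isOpenEmbedding.isInducing.specializes_iff.1 (h _ (hgη.map (Scheme.Opens.ι U).continuous))
  obtain ⟨o, ho, ⟨z, hz⟩, hoZ⟩ :=
    NoetherianSpace.exists_isOpen_nonempty_subset_irreducibleComponent _ (irreducibleComponent_mem_irreducibleComponents η')
  refine ⟨(Scheme.Opens.ι U) z, interior_maximal ?_ ((Scheme.Opens.ι U).isOpenEmbedding.isOpenMap o ho) ⟨z, hz, rfl⟩⟩
  rintro _ ⟨a, ha, rfl⟩
  have hga : g ⤳ a := specializes_iff_mem_closure.2 (hg.symm ▸ hoZ ha)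
  exact specializes_iff_mem_closure.1 ((hηg.trans hga).map (Scheme.Opens.ι U).continuous)

variable {X Y : Scheme.{u}} (f : X ⟶ Y)

/-- Stalk maps of geometrically reduced morphisms are geometrically reduced. -/
theorem geometricallyReduced_stalkMap [GeometricallyReduced f] (x : X) :
    GeometricallyReduced (Spec.map (f.stalkMap x)) := by
  refine ⟨fun K _ s P fst snd hP => ?_⟩
  let ι := Y.fromSpecStalk (f x)
  let Q := pullback f (s ≫ ι)
  haveI : IsReduced Q := GeometricallyReduced.geometrically_isReduced (f := f) (s ≫ ι) (pullback.fst _ _)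
    (pullback.snd _ _) (IsPullback.of_hasPullback _ _)
  let j : P ⟶ Q := pullback.lift (fst ≫ X.fromSpecStalk x) snd
    (by rw [Category.assoc, ← Scheme.SpecMap_stalkMap_fromSpecStalk, ← Category.assoc, hP.w, Category.assoc])
  have hpb : IsPullback j fst (pullback.fst f (s ≫ ι)) (X.fromSpecStalk x) := by
    haveI : Mono ι := inferInstance
    have h2 : IsPullback fst snd (X.fromSpecStalk x ≫ f) (s ≫ ι) := by
      rw [← Scheme.SpecMap_stalkMap_fromSpecStalk]
      exact IsPullback.of_isLimit' ⟨by rw [← Category.assoc, ← Category.assoc, hP.w]⟩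
        (PullbackCone.isLimitOfCompMono _ _ ι _ hP.isLimit)
    have h3 : IsPullback (j ≫ pullback.snd f (s ≫ ι)) fst (s ≫ ι) (X.fromSpecStalk x ≫ f) := by
      rw [show j ≫ pullback.snd f (s ≫ ι) = snd from pullback.lift_snd _ _ _]
      exact h2.flip
    exact IsPullback.of_right h3 (pullback.lift_fst _ _ _) (IsPullback.of_hasPullback f (s ≫ ι)).flip
  haveI : Flat (X.fromSpecStalk x) := AlgSpLib.flat_fromSpecStalk x
  haveI : Flat j := MorphismProperty.of_isPullback hpb.flip inferInstance
  haveI : IsPreimmersion j := MorphismProperty.of_isPullback hpb.flip inferInstance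
  haveI : ∀ p : P, _root_.IsReduced (P.presheaf.stalk p) := fun p =>
    isReduced_of_injective (RingEquiv.ofBijective (j.stalkMap p).hom (SweepSix.FieldsRed.isIso_stalkMap j p)).symm
      (RingEquiv.ofBijective (j.stalkMap p).hom (SweepSix.FieldsRed.isIso_stalkMap j p)).symm.injective
  exact isReduced_of_isReduced_stalk P

/-- Complements of closed sets with nowhere dense image are connected. -/
theorem isConnected_compl_scheme [IsLocallyNoetherian X] [IsLocallyNoetherian Y] [ConnectedSpace X]
    (hY : ∀ y : Y, CAlg2.IsGeomUnibranch (Y.presheaf.stalk y)) [Flat f] [GeometricallyReduced f]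
    (T : Set X) (hT : IsClosed T) (hT' : interior (closure (f.base '' T)) = ∅) : _root_.IsConnected Tᶜ := by
  have hloc : ∀ x : X, _root_.IsConnected ({z : X | z ⤳ x} ∩ Tᶜ) := by
    intro x
    let A := Y.presheaf.stalk (f x)
    let B := X.presheaf.stalk x
    letI : Algebra A B := (f.stalkMap x).hom.toAlgebra
    haveI : IsLocalHom (algebraMap A B) := f.toLRSHom.prop x
    haveI : Module.Flat A B := Flat.stalkMap f x
    haveI : GeometricallyReduced (Spec.map (CommRingCat.ofHom (algebraMap A B))) := geometricallyReduced_stalkMap f x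
    have h := isConnected_compl A B (hY (f x)) (fun p _ => fiber_geomRed A B p)
      ((X.fromSpecStalk x) ⁻¹' T) (hT.preimage (X.fromSpecStalk x).continuous) (by
        rw [Set.eq_empty_iff_forall_notMem]
        intro z hz
        haveI : IsDomain (CAlg2.red A) := (hY (f x)).1.1
        let η : PrimeSpectrum A := ⟨nilradical A, (Ideal.Quotient.isDomain_iff_prime _).1 ‹_›⟩
        have hηz : η ⤳ z := (PrimeSpectrum.le_iff_specializes η z).1 (nilradical_le_prime z.asIdeal)
        have hη : η ∈ closure (PrimeSpectrum.comap (algebraMap A B) '' ((X.fromSpecStalk x) ⁻¹' T)) :=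
          interior_subset (hηz.mem_open isOpen_interior hz)
        have hη' : Y.fromSpecStalk (f x) η ∈ closure (f.base '' T) := by
          refine closure_mono ?_ (image_closure_subset_closure_image (Y.fromSpecStalk (f x)).continuous ⟨η, hη, rfl⟩)
          rintro _ ⟨_, ⟨b, hb, rfl⟩, rfl⟩
          refine ⟨X.fromSpecStalk x b, hb, ?_⟩
          show f (X.fromSpecStalk x b) = Y.fromSpecStalk (f x) (Spec.map (f.stalkMap x) b)
          exact (congrArg (fun φ => φ.base b) (Scheme.SpecMap_stalkMap_fromSpecStalk f (x := x))).symm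
        have hmax : ∀ w : Y, w ⤳ Y.fromSpecStalk (f x) η → Y.fromSpecStalk (f x) η ⤳ w := by
          intro w hw
          have hwy : w ∈ Set.range (Y.fromSpecStalk (f x)) := by
            rw [Scheme.range_fromSpecStalk]
            have : Y.fromSpecStalk (f x) η ∈ Set.range (Y.fromSpecStalk (f x)) := ⟨η, rfl⟩
            rw [Scheme.range_fromSpecStalk] at this
            exact hw.trans this
          obtain ⟨v, rfl⟩ := hwy
          exact ((PrimeSpectrum.le_iff_specializes η v).1 (@nilradical_le_prime A _ v.asIdeal v.2)).map (Y.fromSpecStalk (f x)).continuous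
        obtain ⟨o, ho⟩ := interior_closure_nonempty Y _ hmax
        have : o ∈ interior (closure (f.base '' T)) :=
          interior_mono (closure_minimal (Set.singleton_subset_iff.2 hη') isClosed_closure) ho
        rw [hT'] at this
        exact this)
    have h2 := h.image _ (X.fromSpecStalk x).continuous.continuousOn
    have he : (X.fromSpecStalk x) '' ((X.fromSpecStalk x) ⁻¹' T)ᶜ = {z : X | z ⤳ x} ∩ Tᶜ := by
      rw [← Scheme.range_fromSpecStalk]
      ext z
      constructor
      · rintro ⟨b, hb, rfl⟩; exact ⟨⟨b, rfl⟩, hb⟩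
      · rintro ⟨⟨b, rfl⟩, hb⟩; exact ⟨b, hb, rfl⟩
    exact he ▸ h2
  obtain ⟨x₀⟩ := (inferInstance : Nonempty X)
  refine ⟨(hloc x₀).nonempty.mono Set.inter_subset_right, ?_⟩
  intro U V hU hV hcov ⟨a, haT, haU⟩ ⟨b, hbT, hbV⟩
  by_contra hUV
  rw [Set.not_nonempty_iff_eq_empty] at hUV
  let P : Set X := {x | {z : X | z ⤳ x} ∩ Tᶜ ⊆ U}
  have hdich : ∀ x : X, x ∈ P ∨ {z : X | z ⤳ x} ∩ Tᶜ ⊆ V := fun x =>
    (isPreconnected_iff_subset_of_disjoint.1 (hloc x).isPreconnected U V hU hV
      (Set.inter_subset_right.trans hcov) (Set.eq_empty_of_subset_empty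
        ((Set.inter_subset_inter_left _ Set.inter_subset_right).trans hUV.le)))
  have hmem : ∀ x : X, ∀ z ∈ {z : X | z ⤳ x} ∩ Tᶜ, z ∈ U → x ∈ P := fun x z hz hzU =>
    (hdich x).resolve_right fun h => Set.eq_empty_iff_forall_notMem.1 hUV z ⟨hz.2, hzU, h hz⟩
  have hcl : IsClosed P := by
    refine isClosed_of_specializes X (fun {a b} hab ha => ?_) (fun {a b} hab hb z hz => hb ⟨hz.1.trans hab, hz.2⟩)
    obtain ⟨z, hz⟩ := (hloc a).nonempty
    exact hmem b z ⟨hz.1.trans hab, hz.2⟩ (ha hz)
  have hop : IsOpen P := by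
    rw [← isClosed_compl_iff]
    refine isClosed_of_specializes X (fun {a b} hab ha hb => ha fun z hz => hb ⟨hz.1.trans hab, hz.2⟩)
      (fun {a b} hab hb ha => hb ?_)
    obtain ⟨z, hz⟩ := (hloc a).nonempty
    exact hmem b z ⟨hz.1.trans hab, hz.2⟩ (ha hz)
  rcases isClopen_iff.1 ⟨hcl, hop⟩ with h0 | h1
  · exact Set.eq_empty_iff_forall_notMem.1 h0 a (hmem a a ⟨specializes_rfl, haT⟩ haU)
  · have hb : b ∈ P := h1.ge (Set.mem_univ b)
    exact Set.eq_empty_iff_forall_notMem.1 hUV b ⟨hbT, hb ⟨specializes_rfl, hbT⟩, hbV⟩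

end HensFormalLib
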