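import Groth.Agent.HensFormalLib.Basic
import Groth.Agent.GeomRedFibLib.IntClosedBC
import Groth.Agent.ConnBC.Tensor
import Mathlib.RingTheory.LocalRing.ResidueField.Ideal
import Mathlib.AlgebraicGeometry.Geometrically.Reduced

/-! Geometric connectedness of fibres over henselian local rings. -/

set_option autoImplicit false
set_option linter.style.haveILetI false
set_option maxHeartbeats 800000
universe u

open EGA4 TensorProduct IsLocalRing

namespace HensFormalLib

variable (A Ah : Type u) [CommRing A] [HenselianLocalRing A] [IsNoetherianRing A] [CommRing Ah] [IsLocalRing Ah]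
  [Algebra A Ah] [Module.FaithfullyFlat A Ah]
  (hloc : ∀ (B : Type u) [CommRing B] [IsLocalRing B] [Algebra A B] [Algebra.IsIntegral A B],
    Nontrivial (Ah ⊗[A] B) → IsLocalRing (Ah ⊗[A] B))
  (hfib : ∀ (p : Ideal A) [p.IsPrime], Algebra.IsGeometricallyReduced p.ResidueField (p.Fiber Ah))

include hloc hfib in
/-- Idempotents over an algebraically closed point are trivial. -/
theorem trivIdem_tensor_algClosed (p : Ideal A) [p.IsPrime] :
    ConnBC.TrivIdem (Ah ⊗[A] AlgebraicClosure p.ResidueField) := by
  let L := AlgebraicClosure p.ResidueField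
  let B := integralClosure A L
  haveI := isLocalRing_of_integral_domain A B
  haveI : Nontrivial (Ah ⊗[A] B) := Module.FaithfullyFlat.lTensor_nontrivial A Ah _
  haveI := hloc B inferInstance
  intro e he
  have hcl : GeomRedFibLib.IntClosedMap
      (Algebra.TensorProduct.map (AlgHom.id A Ah) (IsScalarTower.toAlgHom A B L)).toRingHom :=
    GeomRedFibLib.intClosedMap_bc_field hfib B L Subtype.val_injective fun x hx =>
      ⟨⟨x, isIntegral_trans (R := A) (A := B) x hx⟩, rfl⟩
  obtain ⟨t, ht⟩ := hcl e ⟨Polynomial.X * (Polynomial.X - Polynomial.C 1),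
    Polynomial.monic_X.mul (Polynomial.monic_X_sub_C 1), by simp [mul_sub, he.eq]⟩
  have hinj : Function.Injective (Algebra.TensorProduct.map (AlgHom.id A Ah) (IsScalarTower.toAlgHom A B L)) :=
    Module.Flat.lTensor_preserves_injective_linearMap (M := Ah) (IsScalarTower.toAlgHom A B L).toLinearMap
      Subtype.val_injective
  have htt : IsIdempotentElem t := hinj (by
    rw [map_mul]
    show _ * _ = _
    simp only [AlgHom.toRingHom_eq_coe, RingHom.coe_coe] at ht
    rw [ht]
    exact he.eq)
  simp only [AlgHom.toRingHom_eq_coe, RingHom.coe_coe] at ht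
  rcases IsLocalRing.isUnit_or_isUnit_one_sub_self t with h | h
  · right
    have : t = 1 := IsUnit.mul_left_cancel h (by rw [htt.eq, mul_one])
    rw [← ht, this, map_one]
  · left
    have : t = 0 := h.mul_right_eq_zero.1 (by rw [sub_mul, one_mul, htt.eq, sub_self])
    rw [← ht, this, map_zero]

theorem trivIdem_congr {R S : Type u} [CommRing R] [CommRing S] (e : R ≃+* S) (h : ConnBC.TrivIdem R) :
    ConnBC.TrivIdem S :=
  ConnBC.TrivIdem.of_injective e.symm.toRingHom e.symm.injective h

/-- Descent of trivial idempotents from an algebraic closure to any field. -/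
theorem trivIdem_bc_of_algClosure (k : Type u) [Field k] (F : Type u) [CommRing F] [Algebra k F]
    (h : ConnBC.TrivIdem (AlgebraicClosure k ⊗[k] F)) (K : Type u) [Field K] [Algebra k K] :
    ConnBC.TrivIdem (K ⊗[k] F) := by
  let L := AlgebraicClosure k
  let M := AlgebraicClosure K
  let ι : L →ₐ[k] M := IsAlgClosed.lift
  letI : Algebra L M := ι.toRingHom.toAlgebra
  haveI : IsScalarTower k L M := IsScalarTower.of_algebraMap_eq fun x => (ι.commutes x).symm
  have hM : ConnBC.TrivIdem (M ⊗[k] F) := trivIdem_congr
    (Algebra.TensorProduct.cancelBaseChange k L M M F).toRingEquiv (ConnBC.trivIdem_tensor_field (F := M) h)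
  exact ConnBC.TrivIdem.of_injective
    (Algebra.TensorProduct.map (IsScalarTower.toAlgHom k K M) (AlgHom.id k F)).toRingHom
    (Module.Flat.rTensor_preserves_injective_linearMap (M := F)
      (IsScalarTower.toAlgHom k K M).toLinearMap (algebraMap K M).injective) hM

include hloc hfib in
/-- The fibres of a flat local algebra with geometrically reduced fibres and trivial residue extension over a
henselian local ring are geometrically connected. -/
theorem connected_bc_of_local (K : Type u) [Field K] [Algebra A K] :
    Nontrivial (K ⊗[A] Ah) ∧ ConnBC.TrivIdem (K ⊗[A] Ah) := by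
  refine ⟨?_, ?_⟩
  · haveI : Nontrivial (Ah ⊗[A] K) := Module.FaithfullyFlat.lTensor_nontrivial A Ah _
    exact (Algebra.TensorProduct.comm A Ah K).symm.toRingEquiv.toEquiv.nontrivial
  · let p := RingHom.ker (algebraMap A K)
    haveI : p.IsPrime := RingHom.ker_isPrime _
    let g := Ideal.ResidueField.liftₐ p (Algebra.ofId A K) le_rfl (fun x hx => isUnit_iff_ne_zero.2 fun h0 => hx h0)
    letI : Algebra p.ResidueField K := g.toRingHom.toAlgebra
    haveI : IsScalarTower A p.ResidueField K := IsScalarTower.of_algebraMap_eq fun a => (g.commutes a).symm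
    have h1 : ConnBC.TrivIdem (AlgebraicClosure p.ResidueField ⊗[p.ResidueField] p.Fiber Ah) :=
      trivIdem_congr ((Algebra.TensorProduct.comm A Ah (AlgebraicClosure p.ResidueField)).toRingEquiv.trans
        (Algebra.TensorProduct.cancelBaseChange A p.ResidueField (AlgebraicClosure p.ResidueField)
          (AlgebraicClosure p.ResidueField) Ah).symm.toRingEquiv) (trivIdem_tensor_algClosed A Ah hloc hfib p)
    exact trivIdem_congr (Algebra.TensorProduct.cancelBaseChange A p.ResidueField K K Ah).toRingEquiv
      (trivIdem_bc_of_algClosure p.ResidueField (p.Fiber Ah) h1 K)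

/-- The fibres of a flat local algebra with geometrically reduced fibres and trivial residue extension over a
henselian local ring are geometrically connected. -/
theorem connected_bc (A Ah : Type u) [CommRing A] [HenselianLocalRing A] [IsNoetherianRing A] [CommRing Ah]
    [IsLocalRing Ah] [Algebra A Ah] [Module.FaithfullyFlat A Ah]
    (hres : ∀ a : Ah, ∃ a₀ : A, a - algebraMap A Ah a₀ ∈ maximalIdeal Ah)
    (hfib : ∀ (p : Ideal A) [p.IsPrime], Algebra.IsGeometricallyReduced p.ResidueField (p.Fiber Ah))
    (K : Type u) [Field K] [Algebra A K] : Nontrivial (K ⊗[A] Ah) ∧ ConnBC.TrivIdem (K ⊗[A] Ah) :=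
  connected_bc_of_local A Ah (fun B _ _ _ _ h => by haveI := h; exact isLocalRing_tensor A Ah B hres) hfib K

end HensFormalLib

namespace HensFormalLib

open CategoryTheory CategoryTheory.Limits AlgebraicGeometry

/-- Geometrically reduced morphisms have geometrically reduced fibre rings. -/
theorem fiber_geomRed (A B : Type u) [CommRing A] [CommRing B] [Algebra A B]
    [GeometricallyReduced (Spec.map (CommRingCat.ofHom (algebraMap A B)))] (p : Ideal A) [p.IsPrime] :
    Algebra.IsGeometricallyReduced p.ResidueField (p.Fiber B) := by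
  rw [Algebra.isGeometricallyReduced_field_iff]
  let L := AlgebraicClosure p.ResidueField
  haveI : IsReduced (pullback (Spec.map (CommRingCat.ofHom (algebraMap A B)))
    (Spec.map (CommRingCat.ofHom (algebraMap A L)))) :=
    GeometricallyReduced.geometrically_isReduced (f := Spec.map (CommRingCat.ofHom (algebraMap A B)))
      (Spec.map (CommRingCat.ofHom (algebraMap A L))) (pullback.fst _ _) (pullback.snd _ _)
      (IsPullback.of_hasPullback _ _)
  haveI : IsReduced (Spec (CommRingCat.of (B ⊗[A] L))) := isReduced_of_isOpenImmersion (pullbackSpecIso A B L).inv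
  haveI hBL : _root_.IsReduced (B ⊗[A] L) := (affine_isReduced_iff (CommRingCat.of (B ⊗[A] L))).1 ‹_›
  exact isReduced_of_injective _ ((Algebra.TensorProduct.cancelBaseChange A p.ResidueField L L B).toRingEquiv.trans
    (Algebra.TensorProduct.comm A L B).toRingEquiv).injective

end HensFormalLib
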