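import Groth.Agent.HensFormalLib.GeomNormalPt
import Groth.Agent.BirUnibLib.Radicial

/-! Geometric normality at a point descends along base change. -/

set_option autoImplicit false
set_option linter.style.haveILetI false
set_option maxHeartbeats 1600000
set_option backward.isDefEq.respectTransparency false
set_option synthInstance.maxHeartbeats 400000
universe u

open TensorProduct

namespace HensFormalLib

theorem normalDom_atPrime_congr {A B : Type u} [CommRing A] [CommRing B] (e : A ≃+* B) (P : Ideal B) [P.IsPrime]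
    (Q : Ideal A) [Q.IsPrime] (hQ : Q = P.comap e.toRingHom) :
    NormalDom (Localization.AtPrime P) ↔ NormalDom (Localization.AtPrime Q) := by
  subst hQ
  have hM : (P.comap e.toRingHom).primeCompl.map e.toMonoidHom = P.primeCompl := by
    ext y
    refine ⟨?_, fun hy ↦ ⟨e.symm y, fun hc ↦ hy (by simpa using hc), e.apply_symm_apply y⟩⟩
    rintro ⟨x, hx, rfl⟩ hc
    exact hx hc
  let E := IsLocalization.ringEquivOfRingEquiv (M := (P.comap e.toRingHom).primeCompl) (T := P.primeCompl)
    (Localization.AtPrime (P.comap e.toRingHom)) (Localization.AtPrime P) e hM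
  exact ⟨normalDom_congr E.symm, normalDom_congr E⟩

theorem normalDom_descend {A B : Type u} [CommRing A] [CommRing B] [Algebra A B] [Module.Flat A B]
    (p : Ideal A) [p.IsPrime] (q : Ideal B) [q.IsPrime] (h : p = q.comap (algebraMap A B))
    (hq : NormalDom (Localization.AtPrime q)) : NormalDom (Localization.AtPrime p) := by
  haveI : q.LiesOver p := ⟨h⟩
  letI := Localization.AtPrime.algebraOfLiesOver p q
  haveI : IsLocalHom (algebraMap (Localization.AtPrime p) (Localization.AtPrime q)) :=
    inferInstanceAs (IsLocalHom (Localization.localRingHom p q (algebraMap A B) (q.over_def p)))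
  haveI : Module.Flat (Localization.AtPrime p) (Localization.AtPrime q) :=
    RingHom.flat_algebraMap_iff.mp <| RingHom.Flat.localRingHom (RingHom.flat_algebraMap_iff.mpr inferInstance) ..
  haveI : Module.FaithfullyFlat (Localization.AtPrime p) (Localization.AtPrime q) :=
    Module.FaithfullyFlat.of_flat_of_isLocalHom
  haveI := hq.1
  haveI := hq.2
  exact NorLocLib.isDomain_isIntegrallyClosed_of_faithfullyFlat _ (Localization.AtPrime q)

/-- Geometric normality at a prime descends along base change. -/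
theorem gnRing_of_baseChange (A₁ B₁ R : Type u) [CommRing A₁] [CommRing B₁] [Algebra A₁ B₁] [CommRing R]
    [Algebra A₁ R] (q' : Ideal (R ⊗[A₁] B₁)) [q'.IsPrime] (h : GNRing R (R ⊗[A₁] B₁) q') :
    GNRing A₁ B₁ (q'.comap (Algebra.TensorProduct.includeRight (R := A₁) (A := R) (B := B₁)).toRingHom) := by
  intro K _ _ Q0 _ hQ0
  let T := R ⊗[A₁] B₁
  let S := K ⊗[A₁] B₁
  let c : S ≃+* B₁ ⊗[A₁] K := (Algebra.TensorProduct.comm A₁ K B₁).toRingEquiv
  let Q1 : Ideal S := Q0.comap c.toRingHom
  refine (normalDom_atPrime_congr c Q0 Q1 rfl).2 ?_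
  let iS : B₁ →+* S := (Algebra.TensorProduct.includeRight (R := A₁) (A := K) (B := B₁)).toRingHom
  let iT : B₁ →+* T := (Algebra.TensorProduct.includeRight (R := A₁) (A := R) (B := B₁)).toRingHom
  let q0 : Ideal B₁ := q'.comap iT
  have hS : q0 = Q1.comap iS := by
    show q0 = (Q0.comap c.toRingHom).comap iS
    rw [Ideal.comap_comap]
    refine Eq.trans hQ0.symm ?_
    refine congrArg (fun φ => Ideal.comap φ Q0) (RingHom.ext fun b => ?_)
    show b ⊗ₜ[A₁] (1 : K) = Algebra.TensorProduct.comm A₁ K B₁ ((1 : K) ⊗ₜ[A₁] b)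
    rw [Algebra.TensorProduct.comm_tmul]
  obtain ⟨Ω, _, i, j, hij⟩ := BirUnibLib.exists_common_field
    (Ideal.ResidueField.map q0 Q1 iS hS) (Ideal.ResidueField.map q0 q' iT rfl)
  let π : S →+* Ω := i.comp (algebraMap S Q1.ResidueField)
  let ρ : T →+* Ω := j.comp (algebraMap T q'.ResidueField)
  have hπρ : ∀ b : B₁, π (iS b) = ρ (iT b) := fun b => by
    have := RingHom.congr_fun hij (algebraMap B₁ q0.ResidueField b)
    simpa [π, ρ, Ideal.ResidueField.map_algebraMap] using this
  letI : Algebra K Ω := (π.comp (algebraMap K S)).toAlgebra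
  letI : Algebra R Ω := (ρ.comp (algebraMap R T)).toAlgebra
  letI : Algebra A₁ Ω := ((π.comp (algebraMap K S)).comp (algebraMap A₁ K)).toAlgebra
  haveI : IsScalarTower A₁ K Ω := .of_algebraMap_eq fun _ => rfl
  haveI : IsScalarTower A₁ R Ω := .of_algebraMap_eq fun a => by
    show π (algebraMap K S (algebraMap A₁ K a)) = ρ (algebraMap R T (algebraMap A₁ R a))
    rw [← IsScalarTower.algebraMap_apply A₁ K S, ← IsScalarTower.algebraMap_apply A₁ R T,
      ← (Algebra.TensorProduct.includeRight (R := A₁) (A := K) (B := B₁)).commutes a,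
      ← (Algebra.TensorProduct.includeRight (R := A₁) (A := R) (B := B₁)).commutes a]
    exact hπρ _
  let U := S ⊗[K] Ω
  let η : U ≃+* T ⊗[R] Ω :=
    (Algebra.TensorProduct.comm K S Ω).toRingEquiv.trans
      ((Algebra.TensorProduct.cancelBaseChange A₁ K K Ω B₁).toRingEquiv.trans
        ((Algebra.TensorProduct.cancelBaseChange A₁ R R Ω B₁).symm.toRingEquiv.trans
          (Algebra.TensorProduct.comm R Ω T).toRingEquiv))
  let ρa : T →ₐ[R] Ω := { ρ with commutes' := fun _ => rfl }
  let μ : T ⊗[R] Ω →ₐ[R] Ω := Algebra.TensorProduct.productMap ρa (AlgHom.id R Ω)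
  let Q : Ideal (T ⊗[R] Ω) := RingHom.ker μ.toRingHom
  haveI : Q.IsPrime := RingHom.ker_isPrime _
  have hQ : Q.comap (algebraMap T (T ⊗[R] Ω)) = q' := by
    ext t
    rw [Ideal.mem_comap, RingHom.mem_ker]
    show μ (t ⊗ₜ[R] (1 : Ω)) = 0 ↔ _
    rw [Algebra.TensorProduct.productMap_apply_tmul, map_one, mul_one]
    show j (algebraMap T q'.ResidueField t) = 0 ↔ _
    rw [map_eq_zero, Ideal.algebraMap_residueField_eq_zero]
  have hN := h Ω Q hQ
  haveI : (Q.comap η.toRingHom).IsPrime := inferInstance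
  have key : ∀ s : S, μ (η (algebraMap S U s)) = π s := fun s => by
    induction s using TensorProduct.induction_on with
    | zero => simp only [map_zero]
    | add x y hx hy => simp only [map_add, hx, hy]
    | tmul k b =>
      have h1 : η (algebraMap S U (k ⊗ₜ[A₁] b)) = ((1 : R) ⊗ₜ[A₁] b) ⊗ₜ[R] (algebraMap K Ω k) := by
        show η ((k ⊗ₜ[A₁] b) ⊗ₜ[K] (1 : Ω)) = _
        show Algebra.TensorProduct.comm R Ω T ((Algebra.TensorProduct.cancelBaseChange A₁ R R Ω B₁).symm
          (Algebra.TensorProduct.cancelBaseChange A₁ K K Ω B₁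
            (Algebra.TensorProduct.comm K S Ω ((k ⊗ₜ[A₁] b) ⊗ₜ[K] (1 : Ω))))) = _
        rw [Algebra.TensorProduct.comm_tmul, Algebra.TensorProduct.cancelBaseChange_tmul,
          Algebra.TensorProduct.cancelBaseChange_symm_tmul, Algebra.TensorProduct.comm_tmul,
          ← Algebra.algebraMap_eq_smul_one]
      rw [h1, Algebra.TensorProduct.productMap_apply_tmul, AlgHom.id_apply]
      show ρ (iT b) * π (k ⊗ₜ[A₁] (1 : B₁)) = π (k ⊗ₜ[A₁] b)
      rw [← hπρ, ← map_mul]
      refine congrArg π ?_
      show ((1 : K) ⊗ₜ[A₁] b) * (k ⊗ₜ[A₁] (1 : B₁)) = _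
      rw [Algebra.TensorProduct.tmul_mul_tmul, one_mul, mul_one]
  refine normalDom_descend (B := U) Q1 (Q.comap η.toRingHom) ?_ ((normalDom_atPrime_congr η Q _ rfl).1 hN)
  ext s
  show s ∈ Q1 ↔ μ (η (algebraMap S U s)) = 0
  rw [key]
  show _ ↔ i (algebraMap S Q1.ResidueField s) = 0
  rw [map_eq_zero, Ideal.algebraMap_residueField_eq_zero]

end HensFormalLib
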