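import Groth.Agent.DepthLib.GeomNormalOpen
import Groth.Agent.NorLocLib.SmoothLocal
import Mathlib

/-! Geometrically normal points, tested on all field-valued points of the base. -/

set_option autoImplicit false
set_option linter.style.haveILetI false
set_option maxHeartbeats 1000000
universe u

open CategoryTheory CategoryTheory.Limits AlgebraicGeometry TensorProduct

namespace HensFormalLib

/-- A normal local domain (the ring being arbitrary). -/
def NormalDom (R : Type u) [CommRing R] : Prop := IsDomain R ∧ IsIntegrallyClosed R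

theorem normalDom_congr {R R' : Type u} [CommRing R] [CommRing R'] (e : R ≃+* R') (h : NormalDom R) : NormalDom R' := by
  haveI := h.1
  haveI := h.2
  haveI : IsDomain R' := e.symm.toMulEquiv.isDomain _
  exact ⟨inferInstance, IsIntegrallyClosed.of_equiv e⟩

theorem normalDom_stalk_iff_of_openImmersion {X Y : Scheme.{u}} (j : X ⟶ Y) [IsOpenImmersion j] (x : X) :
    NormalDom (Y.presheaf.stalk (j.base x)) ↔ NormalDom (X.presheaf.stalk x) :=
  ⟨normalDom_congr (asIso (j.stalkMap x)).commRingCatIsoToRingEquiv,
    normalDom_congr (asIso (j.stalkMap x)).commRingCatIsoToRingEquiv.symm⟩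

theorem normalDom_stalk_spec_iff (R : Type u) [CommRing R] (p : PrimeSpectrum R) :
    NormalDom ((Spec (CommRingCat.of R)).presheaf.stalk p) ↔ NormalDom (Localization.AtPrime p.asIdeal) :=
  let R' := CommRingCat.of R
  letI : Algebra R ((Spec R').presheaf.stalk p) := StructureSheaf.stalkAlgebra R' p
  haveI : IsLocalization.AtPrime ((Spec R').presheaf.stalk p) p.asIdeal := StructureSheaf.IsLocalization.to_stalk R' p
  let e := (IsLocalization.algEquiv p.asIdeal.primeCompl ((Spec (CommRingCat.of R)).presheaf.stalk p)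
    (Localization.AtPrime p.asIdeal)).toRingEquiv
  ⟨normalDom_congr e, normalDom_congr e.symm⟩

/-- Normality of all field-valued base changes at the points over `x`. -/
def GNScheme {X S : Scheme.{u}} (f : X ⟶ S) (x : X) : Prop :=
  ∀ (K : Type u) [Field K] (φ : Spec (CommRingCat.of K) ⟶ S) (z : ↥(pullback f φ)),
    (pullback.fst f φ).base z = x → NormalDom ((pullback f φ).presheaf.stalk z)

/-- Normality of all field base changes at the primes over `q`. -/
def GNRing (R C : Type u) [CommRing R] [CommRing C] [Algebra R C] (q : Ideal C) : Prop :=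
  ∀ (K : Type u) [Field K] [Algebra R K] (Q : Ideal (C ⊗[R] K)) [Q.IsPrime],
    Q.comap (algebraMap C (C ⊗[R] K)) = q → NormalDom (Localization.AtPrime Q)

theorem gnScheme_of_fibre {X S : Scheme.{u}} (f : X ⟶ S) [LocallyOfFinitePresentation f] (x : X)
    (h : ∀ (K : Type u) [Field K] [Algebra (IsLocalRing.ResidueField (S.presheaf.stalk (f.base x))) K],
      Module.Finite (IsLocalRing.ResidueField (S.presheaf.stalk (f.base x))) K →
      ∀ x' : ↥(FBase.bc (f.fiberToSpecResidueField (f.base x)) K),
        (FBase.bcπ (f.fiberToSpecResidueField (f.base x)) K).base x' = f.asFiber x →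
        NormalDom ((FBase.bc (f.fiberToSpecResidueField (f.base x)) K).presheaf.stalk x')) :
    GNScheme f x := by
  intro K _ φ z hz
  have hfl : ∀ s : S, LocallyOfFinitePresentation (f.fiberToSpecResidueField s) := fun s =>
    inferInstanceAs (LocallyOfFinitePresentation (pullback.snd f (S.fromSpecResidueField s)))
  haveI := hfl (f.base x)
  have hs : φ.base ((pullback.snd f φ).base z) = f.base x := by
    rw [← hz]
    show ((pullback.snd f φ) ≫ φ).base z = ((pullback.fst f φ) ≫ f).base z
    rw [pullback.condition]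
  obtain ⟨⟨s, α⟩, rfl⟩ : ∃ a, (Scheme.SpecToEquivOfField K S).symm a = φ :=
    ⟨_, (Scheme.SpecToEquivOfField K S).symm_apply_apply φ⟩
  obtain rfl : s = f.base x := by
    rw [← hs]
    exact (S.fromSpecResidueField_apply s _).symm
  letI : Algebra (IsLocalRing.ResidueField (S.presheaf.stalk (f.base x))) K := α.hom.toAlgebra
  let g : Spec (CommRingCat.of K) ⟶ Spec (S.residueField (f.base x)) := Spec.map α
  let e := pullbackLeftPullbackSndIso f (S.fromSpecResidueField (f.base x)) g
  have he : e.inv ≫ pullback.fst (f.fiberToSpecResidueField (f.base x)) g ≫ f.fiberι (f.base x) =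
      pullback.fst f (g ≫ S.fromSpecResidueField (f.base x)) := pullbackLeftPullbackSndIso_inv_fst ..
  haveI : IsOpenImmersion e.inv := inferInstance
  refine (normalDom_stalk_iff_of_openImmersion e.inv z).1 ?_
  have hall := (@DepthLib.geomNormal_iff _ _ _ (f.fiberToSpecResidueField (f.base x)) (hfl (f.base x)) (f.asFiber x)
    (fun _ _ _ => True) trivial).2 ⟨?_, ?_⟩
  · refine hall K trivial _ ?_
    refine (f.fiberι (f.base x)).isEmbedding.injective (.trans ?_ (f.fiberι_asFiber x).symm)
    exact (congrArg (fun m : _ ⟶ X => m.base z) he).trans hz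
  · intro L _ _ _
    have h' := ((@DepthLib.geomNormal_iff _ _ _ (f.fiberToSpecResidueField (f.base x)) (hfl (f.base x)) (f.asFiber x)
      (fun K _ _ => Module.Finite (IsLocalRing.ResidueField (S.presheaf.stalk (f.base x))) K) (Module.Finite.self _)).1 h).1
    exact (@DepthLib.geomRk_iff _ _ _ (f.fiberToSpecResidueField (f.base x)) (hfl (f.base x)) (f.asFiber x) 1).2
      ((@DepthLib.geomRk_fin_iff _ _ _ (f.fiberToSpecResidueField (f.base x)) (hfl (f.base x)) (f.asFiber x) 1).1 h') L
  · exact ((@DepthLib.geomNormal_iff _ _ _ (f.fiberToSpecResidueField (f.base x)) (hfl (f.base x)) (f.asFiber x)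
      (fun K _ _ => Module.Finite (IsLocalRing.ResidueField (S.presheaf.stalk (f.base x))) K) (Module.Finite.self _)).1 h).2

theorem fibre_of_gnScheme {X S : Scheme.{u}} (f : X ⟶ S) (x : X) (h : GNScheme f x)
    (K : Type u) [Field K] [Algebra (IsLocalRing.ResidueField (S.presheaf.stalk (f.base x))) K]
    (x' : ↥(FBase.bc (f.fiberToSpecResidueField (f.base x)) K))
    (hx' : (FBase.bcπ (f.fiberToSpecResidueField (f.base x)) K).base x' = f.asFiber x) :
    NormalDom ((FBase.bc (f.fiberToSpecResidueField (f.base x)) K).presheaf.stalk x') := by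
  let g : Spec (CommRingCat.of K) ⟶ Spec (S.residueField (f.base x)) :=
    Spec.map (CommRingCat.ofHom (algebraMap (IsLocalRing.ResidueField (S.presheaf.stalk (f.base x))) K))
  let e := pullbackLeftPullbackSndIso f (S.fromSpecResidueField (f.base x)) g
  have he : e.hom ≫ pullback.fst f (g ≫ S.fromSpecResidueField (f.base x)) =
      pullback.fst (f.fiberToSpecResidueField (f.base x)) g ≫ f.fiberι (f.base x) := pullbackLeftPullbackSndIso_hom_fst ..
  haveI : IsOpenImmersion e.hom := inferInstance
  refine (normalDom_stalk_iff_of_openImmersion e.hom x').1 (h K _ _ ?_)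
  refine (congrArg (fun m : _ ⟶ X => m.base x') he).trans ?_
  show (f.fiberι (f.base x)).base ((FBase.bcπ (f.fiberToSpecResidueField (f.base x)) K).base x') = x
  rw [hx', f.fiberι_asFiber]

theorem gnRing_of_gnScheme {X S : Scheme.{u}} (f : X ⟶ S) (R C : Type u) [CommRing R] [CommRing C] [Algebra R C]
    (i : Spec (CommRingCat.of R) ⟶ S) [Mono i] (j : Spec (CommRingCat.of C) ⟶ X) [IsOpenImmersion j]
    (w : Spec.map (CommRingCat.ofHom (algebraMap R C)) ≫ i = j ≫ f) (q : PrimeSpectrum C)
    (h : GNScheme f (j.base q)) : GNRing R C q.asIdeal := by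
  intro K _ _ Q _ hQ
  let φ := Spec.map (CommRingCat.ofHom (algebraMap R K))
  let π := pullback.map (Spec.map (CommRingCat.ofHom (algebraMap R C))) φ f (φ ≫ i) j (𝟙 _) i w
    (by rw [Category.id_comp])
  let m := (pullbackSpecIso R C K).inv ≫ π
  haveI : IsOpenImmersion π := inferInstance
  haveI : IsOpenImmersion m := inferInstance
  refine (normalDom_stalk_spec_iff (C ⊗[R] K) ⟨Q, ‹_›⟩).1 ((normalDom_stalk_iff_of_openImmersion m (show PrimeSpectrum (C ⊗[R] K) from ⟨Q, ‹_›⟩)).1 ?_)
  refine h K _ _ ?_
  have hm : m ≫ pullback.fst f (φ ≫ i) = Spec.map (CommRingCat.ofHom (algebraMap C (C ⊗[R] K))) ≫ j := by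
    show ((pullbackSpecIso R C K).inv ≫ π) ≫ pullback.fst f (φ ≫ i) = _
    rw [Category.assoc, show π ≫ pullback.fst f (φ ≫ i) = pullback.fst _ φ ≫ j from pullback.lift_fst _ _ _,
      ← Category.assoc, pullbackSpecIso_inv_fst']
  refine (congrArg (fun g : _ ⟶ X => g.base (show PrimeSpectrum (C ⊗[R] K) from ⟨Q, ‹_›⟩)) hm).trans ?_
  show j.base _ = j.base q
  congr 1
  exact PrimeSpectrum.ext hQ

theorem gnScheme_of_gnRing (R C : Type u) [CommRing R] [CommRing C] [Algebra R C] (q : PrimeSpectrum C)
    (h : GNRing R C q.asIdeal) : GNScheme (Spec.map (CommRingCat.ofHom (algebraMap R C))) q := by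
  intro K _ φ z hz
  obtain ⟨ψ, rfl⟩ := Spec.map_surjective φ
  letI : Algebra R K := ψ.hom.toAlgebra
  let t : PrimeSpectrum (C ⊗[R] K) := (pullbackSpecIso R C K).hom.base z
  haveI : IsOpenImmersion (pullbackSpecIso R C K).hom := inferInstance
  refine (normalDom_stalk_iff_of_openImmersion (pullbackSpecIso R C K).hom z).1
    ((normalDom_stalk_spec_iff (C ⊗[R] K) t).2 (h K t.asIdeal ?_))
  have h1 := congrArg (fun g : _ ⟶ Spec (CommRingCat.of C) => g.base z) (pullbackSpecIso_hom_fst' R C K)
  exact congrArg PrimeSpectrum.asIdeal (h1.trans hz)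

end HensFormalLib
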