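import Groth.Agent.HensFormalLib.GeomNormalDesc
import Groth.Agent.HensFormalLib.SmoothBC
import Groth.Agent.RichLib.FlatModel
import Groth.Agent.FlatLib.SchemeFlat

/-! Geometric unibranchness ascends along flat maps with geometrically normal fibre at the point. -/

set_option autoImplicit false
set_option linter.style.haveILetI false
set_option maxHeartbeats 1600000
set_option synthInstance.maxHeartbeats 400000
set_option backward.isDefEq.respectTransparency false
universe u

open CategoryTheory CategoryTheory.Limits AlgebraicGeometry TensorProduct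

namespace HensFormalLib

theorem gnRing_congr (R C C' : Type u) [CommRing R] [CommRing C] [Algebra R C] [CommRing C'] [Algebra R C']
    (e : C ≃ₐ[R] C') (q' : Ideal C') (h : GNRing R C' q') : GNRing R C (q'.comap e.toRingEquiv.toRingHom) := by
  intro K _ _ Q _ hQ
  let E : C ⊗[R] K ≃ₐ[R] C' ⊗[R] K := Algebra.TensorProduct.congr e AlgEquiv.refl
  let Q' : Ideal (C' ⊗[R] K) := Q.comap E.symm.toRingEquiv.toRingHom
  refine (normalDom_atPrime_congr E.symm.toRingEquiv Q Q' rfl).2 (h K Q' ?_)
  ext y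
  show E.symm (y ⊗ₜ[R] (1 : K)) ∈ Q ↔ y ∈ q'
  have h1 : E.symm (y ⊗ₜ[R] (1 : K)) = (e.symm y) ⊗ₜ[R] (1 : K) := by
    simp [E]
  rw [h1]
  refine (iff_of_eq (congrArg (fun I : Ideal C => e.symm y ∈ I) hQ)).trans ?_
  show e (e.symm y) ∈ q' ↔ _
  rw [AlgEquiv.apply_symm_apply]

/-- Geometric normality at every prime makes a flat algebra a normal homomorphism. -/
theorem isNormalHom_of_gnRing (A B : Type u) [CommRing A] [CommRing B] [Algebra A B] [Module.Flat A B]
    (h : ∀ (P : Ideal B) [P.IsPrime], GNRing A B P) : EGA4.IsNormalHom A B := by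
  refine ⟨inferInstance, fun p _ k' _ _ _ => ?_⟩
  letI : Algebra A k' := ((algebraMap p.ResidueField k').comp (algebraMap A p.ResidueField)).toAlgebra
  haveI : IsScalarTower A p.ResidueField k' := .of_algebraMap_eq fun _ => rfl
  have hn : EGA4.IsNormalRing (B ⊗[A] k') := fun Q _ => h (Q.comap (algebraMap B (B ⊗[A] k'))) k' Q rfl
  exact GeomRedFibLib.isNormalRing_of_ringEquiv _ _
    ((Algebra.TensorProduct.comm A B k').toRingEquiv.trans
      (Algebra.TensorProduct.cancelBaseChange A p.ResidueField p.ResidueField k' B).symm.toRingEquiv) hn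

/-- The Noetherian step: base change of a model which is geometrically normal at the point. -/
theorem geomUnibranch_of_model (A₁ B₁ R : Type u) [CommRing A₁] [CommRing B₁] [Algebra A₁ B₁] [IsNoetherianRing A₁]
    [IsNoetherianRing B₁] [Algebra.FinitePresentation A₁ B₁] [Module.Flat A₁ B₁] [CommRing R] [Algebra A₁ R]
    (q' : Ideal (R ⊗[A₁] B₁)) [q'.IsPrime] (hgT : GNRing R (R ⊗[A₁] B₁) q')
    (hR : CAlg2.IsGeomUnibranch (Localization.AtPrime (q'.comap (algebraMap R (R ⊗[A₁] B₁))))) :
    CAlg2.IsGeomUnibranch (Localization.AtPrime q') := by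
  let iT := (Algebra.TensorProduct.includeRight (R := A₁) (A := R) (B := B₁)).toRingHom
  let q0 : PrimeSpectrum B₁ := ⟨q'.comap iT, inferInstance⟩
  have hg0 : GNRing A₁ B₁ q0.asIdeal := gnRing_of_baseChange A₁ B₁ R q' hgT
  let f₁ : Spec (CommRingCat.of B₁) ⟶ Spec (CommRingCat.of A₁) := Spec.map (CommRingCat.ofHom (algebraMap A₁ B₁))
  haveI : LocallyOfFinitePresentation f₁ := (HasRingHomProperty.Spec_iff (P := @LocallyOfFinitePresentation)).2
    (RingHom.finitePresentation_algebraMap.2 inferInstance)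
  haveI : Flat f₁ := (HasRingHomProperty.Spec_iff (P := @Flat)).2 (RingHom.flat_algebraMap_iff.2 inferInstance)
  have hO := DepthLib.isOpen_flat_geomNormal f₁
  obtain ⟨_, ⟨g₀, rfl⟩, hgq, hgO⟩ := PrimeSpectrum.isTopologicalBasis_basic_opens.exists_subset_of_mem_open
    (a := q0) (by
      refine ⟨Flat.stalkMap f₁ _, fun K _ _ _ z hz => ?_⟩
      exact fibre_of_gnScheme f₁ q0 (gnScheme_of_gnRing A₁ B₁ q0 hg0) K z hz) hO
  let B₂ := Localization.Away g₀
  haveI : Module.Flat A₁ B₂ := Module.Flat.trans A₁ B₁ B₂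
  haveI : IsNoetherianRing B₂ := IsLocalization.isNoetherianRing (Submonoid.powers g₀) _ inferInstance
  let j : Spec (CommRingCat.of B₂) ⟶ Spec (CommRingCat.of B₁) := Spec.map (CommRingCat.ofHom (algebraMap B₁ B₂))
  haveI : IsOpenImmersion j := IsOpenImmersion.of_isLocalization (R := B₁) g₀
  have hn : EGA4.IsNormalHom A₁ B₂ := isNormalHom_of_gnRing A₁ B₂ fun P hP => by
    refine gnRing_of_gnScheme f₁ A₁ B₂ (𝟙 _) j ?_ ⟨P, hP⟩ ?_
    · rw [Category.comp_id, ← Spec.map_comp, ← CommRingCat.ofHom_comp, ← IsScalarTower.algebraMap_eq]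
    · have hm : j.base (⟨P, hP⟩ : PrimeSpectrum B₂) ∈ (PrimeSpectrum.basicOpen g₀ : Set (PrimeSpectrum B₁)) := by
        show g₀ ∉ P.comap (algebraMap B₁ B₂)
        exact fun hc => hP.ne_top (Ideal.eq_top_of_isUnit_mem _ hc
          (IsLocalization.map_units B₂ (⟨g₀, Submonoid.mem_powers g₀⟩ : Submonoid.powers g₀)))
      exact gnScheme_of_fibre f₁ _ (hgO hm).2
  let T := R ⊗[A₁] B₁
  let W := R ⊗[A₁] B₂
  let g : T →ₐ[R] W := Algebra.TensorProduct.map (AlgHom.id R R) (IsScalarTower.toAlgHom A₁ B₁ B₂)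
  letI : Algebra T W := g.toRingHom.toAlgebra
  haveI : IsScalarTower R T W := .of_algebraMap_eq fun r => (g.commutes r).symm
  let M := (Submonoid.powers g₀).map (Algebra.TensorProduct.includeRight (R := A₁) (A := R) (B := B₁))
  haveI : IsLocalization M W :=
    IsLocalization.tensorProduct_tensorProduct_right A₁ R (Submonoid.powers g₀) B₂
      (by ext b; show g ((1 : R) ⊗ₜ[A₁] b) = _; rw [Algebra.TensorProduct.map_tmul]; rfl)
  have hd : Disjoint (M : Set T) (q' : Set T) := by
    refine Set.disjoint_left.2 ?_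
    rintro _ ⟨_, ⟨n, rfl⟩, rfl⟩ hc
    exact hgq (q0.isPrime.mem_of_pow_mem n hc)
  let q2 := q'.map (algebraMap T W)
  haveI : q2.IsPrime := IsLocalization.isPrime_of_isPrime_disjoint M W q' ‹_› hd
  have hc2 : q2.comap (algebraMap T W) = q' := IsLocalization.under_map_of_isPrime_disjoint M W ‹_› hd
  haveI : IsLocalization.AtPrime (Localization.AtPrime q2) q' := by
    haveI : IsLocalization.AtPrime (Localization.AtPrime q2) (q2.comap (algebraMap T W)) :=
      IsLocalization.isLocalization_isLocalization_atPrime_isLocalization M (Localization.AtPrime q2) q2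
    show IsLocalization q'.primeCompl _
    simp_rw [← hc2]
    infer_instance
  have hp : q2.comap (algebraMap R W) = q'.comap (algebraMap R T) := by
    rw [IsScalarTower.algebraMap_eq R T W, ← Ideal.comap_comap, hc2]
  have hR' : CAlg2.IsGeomUnibranch (Localization.AtPrime (q2.comap (algebraMap R W))) := by
    haveI : IsLocalization.AtPrime (Localization.AtPrime (q'.comap (algebraMap R T))) (q2.comap (algebraMap R W)) := by
      show IsLocalization (q2.comap (algebraMap R W)).primeCompl _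
      simp_rw [hp]
      infer_instance
    exact isGeomUnibranch_of_ringEquiv _ _ (IsLocalization.algEquiv (q2.comap (algebraMap R W)).primeCompl
      (Localization.AtPrime (q'.comap (algebraMap R T))) (Localization.AtPrime (q2.comap (algebraMap R W)))).toRingEquiv hR
  exact isGeomUnibranch_of_ringEquiv _ _
    (IsLocalization.algEquiv q'.primeCompl (Localization.AtPrime q2) (Localization.AtPrime q')).toRingEquiv
    (geomUnibranch_bc_prime A₁ B₂ R hn q2 hR').1

theorem geomUnibranch_stalk_of_normalAt {X Y : Scheme.{u}} (f : X ⟶ Y) [LocallyOfFinitePresentation f] (x : X)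
    (hY : CAlg2.IsGeomUnibranch (Y.presheaf.stalk (f.base x))) (hflat : (f.stalkMap x).hom.Flat)
    (hnorm : ∀ (K : Type u) [Field K] [Algebra (IsLocalRing.ResidueField (Y.presheaf.stalk (f.base x))) K],
      Module.Finite (IsLocalRing.ResidueField (Y.presheaf.stalk (f.base x))) K →
      ∀ x' : ↥(FBase.bc (f.fiberToSpecResidueField (f.base x)) K),
        (FBase.bcπ (f.fiberToSpecResidueField (f.base x)) K).base x' = f.asFiber x →
        NormalDom ((FBase.bc (f.fiberToSpecResidueField (f.base x)) K).presheaf.stalk x')) :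
    CAlg2.IsGeomUnibranch (X.presheaf.stalk x) := by
  obtain ⟨_, ⟨U, hU, rfl⟩, hxU, -⟩ :=
    Y.isBasis_affineOpens.exists_subset_of_mem_open (Set.mem_univ (f.base x)) isOpen_univ
  obtain ⟨_, ⟨V, hV, rfl⟩, hxV, hVW⟩ :=
    X.isBasis_affineOpens.exists_subset_of_mem_open (show x ∈ f.base ⁻¹' (U : Set Y) ∩ {z | (f.stalkMap z).hom.Flat} from ⟨hxU, hflat⟩)
      ((U.2.preimage f.continuous).inter (FlatLib.isOpen_setOf_flat_stalkMap f))
  have hVU : (V : X.Opens) ≤ f ⁻¹ᵁ U := fun z hz => (hVW hz).1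
  let R := Γ(Y, U)
  let C := Γ(X, V)
  letI : Algebra R C := (f.appLE U V hVU).hom.toAlgebra
  have hfp : (f.appLE U V hVU).hom.FinitePresentation :=
    HasRingHomProperty.appLE @LocallyOfFinitePresentation f inferInstance ⟨U, hU⟩ ⟨V, hV⟩ hVU
  haveI : Algebra.FinitePresentation R C := hfp
  haveI hfl : Flat ((Scheme.Opens.ι V) ≫ f) := by
    rw [Flat.iff_flat_stalkMap]
    intro z
    rw [Scheme.Hom.stalkMap_comp]
    exact RingHom.Flat.comp (hVW (show ↥(V : X.Opens) from z).2).2 (Flat.stalkMap (Scheme.Opens.ι V) z)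
  haveI : Module.Flat R C := by
    have h1 : Flat (Spec.map (f.appLE U V hVU)) := by
      have h2 : Flat (Spec.map (f.appLE U V hVU) ≫ hU.fromSpec) := by
        rw [hU.SpecMap_appLE_fromSpec f hV hVU, IsAffineOpen.fromSpec, Category.assoc]
        exact MorphismProperty.comp_mem _ _ _ inferInstance hfl
      exact MorphismProperty.of_postcomp @Flat (W' := @IsOpenImmersion) _ hU.fromSpec inferInstance h2
    exact (HasRingHomProperty.Spec_iff (P := @Flat)).1 h1
  let q := (hV.primeIdealOf ⟨x, hxV⟩)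
  have hw : Spec.map (CommRingCat.ofHom (algebraMap R C)) ≫ hU.fromSpec = hV.fromSpec ≫ f :=
    hU.SpecMap_appLE_fromSpec f hV hVU
  have hfs : hV.fromSpec.base q = x := hV.fromSpec_primeIdealOf ⟨x, hxV⟩
  have hgC : GNRing R C q.asIdeal :=
    gnRing_of_gnScheme f R C hU.fromSpec hV.fromSpec hw q (hfs.symm ▸ gnScheme_of_fibre f x hnorm)
  obtain ⟨A₁, B₁, _, _, hA₁, _, _, _, _, ⟨e⟩⟩ := RichLib.FlatModel.exists_flat_model R C
  haveI : IsNoetherianRing A₁ := Algebra.FiniteType.isNoetherianRing ℤ A₁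
  haveI : IsNoetherianRing B₁ := Algebra.FiniteType.isNoetherianRing A₁ B₁
  let q' : Ideal (R ⊗[A₁] B₁) := q.asIdeal.comap e.toRingEquiv.toRingHom
  haveI : q'.IsPrime := inferInstance
  letI aU := TopCat.Presheaf.algebra_section_stalk Y.presheaf (⟨f.base x, hxU⟩ : U)
  haveI : IsLocalization.AtPrime (Y.presheaf.stalk (f.base x)) (hU.primeIdealOf ⟨f.base x, hxU⟩).asIdeal :=
    hU.isLocalization_stalk ⟨f.base x, hxU⟩
  have hp : q'.comap (algebraMap R (R ⊗[A₁] B₁)) = (hU.primeIdealOf ⟨f.base x, hxU⟩).asIdeal := by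
    refine Eq.trans ?_ (congrArg PrimeSpectrum.asIdeal (IsAffineOpen.comap_primeIdealOf_appLE U hU V hV hVU hxV))
    show (q.asIdeal.comap e.toRingEquiv.toRingHom).comap (algebraMap R (R ⊗[A₁] B₁)) = q.asIdeal.comap (algebraMap R C)
    rw [Ideal.comap_comap]
    exact congrArg (fun φ => Ideal.comap φ q.asIdeal) (RingHom.ext fun r => e.commutes r)
  haveI : IsLocalization.AtPrime (Y.presheaf.stalk (f.base x)) (q'.comap (algebraMap R (R ⊗[A₁] B₁))) := by
    show IsLocalization (q'.comap (algebraMap R (R ⊗[A₁] B₁))).primeCompl _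
    simp_rw [hp]
    infer_instance
  have hR : CAlg2.IsGeomUnibranch (Localization.AtPrime (q'.comap (algebraMap R (R ⊗[A₁] B₁)))) :=
    isGeomUnibranch_of_ringEquiv _ _ (IsLocalization.algEquiv (q'.comap (algebraMap R (R ⊗[A₁] B₁))).primeCompl
      (Y.presheaf.stalk (f.base x)) (Localization.AtPrime (q'.comap (algebraMap R (R ⊗[A₁] B₁))))).toRingEquiv hY
  have h2 := geomUnibranch_of_model A₁ B₁ R q' (gnRing_congr R _ C e q.asIdeal hgC) hR
  letI aV := TopCat.Presheaf.algebra_section_stalk X.presheaf (⟨x, hxV⟩ : V)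
  haveI : IsLocalization.AtPrime (X.presheaf.stalk x) q.asIdeal := hV.isLocalization_stalk ⟨x, hxV⟩
  refine isGeomUnibranch_of_ringEquiv _ _
    (IsLocalization.ringEquivOfRingEquiv (M := q'.primeCompl) (T := q.asIdeal.primeCompl)
      (Localization.AtPrime q') (X.presheaf.stalk x) e.toRingEquiv ?_) h2
  ext y
  refine ⟨?_, fun hy => ⟨e.symm y, fun hc => hy ((e.apply_symm_apply y) ▸ (show e (e.symm y) ∈ q.asIdeal from hc)), e.apply_symm_apply y⟩⟩
  rintro ⟨z, hz, rfl⟩
  exact hz

end HensFormalLib
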